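import Cfsg.Agent.MinIdxU5.Vec
import Cfsg.Agent.MinIdxU3.Main

/-!
Families of groups of vectors permuted by the three-dimensional special unitary group are large in total.
-/

set_option autoImplicit false
set_option linter.style.haveILetI false
set_option linter.unusedSectionVars false

namespace CfsgLib.MinIdxU5

open Matrix CfsgLib.Unitary CfsgLib.Forms CfsgLib.MinIdxPSU CfsgLib.MinIdxU3
open scoped Classical

variable {F : Type*} [Field F] [Finite F] {q : ℕ} (hF : Nat.card F = q ^ 2)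

local notation "hh" => Cfsg.hermForm (1 + 1 + 1) F q
local notation "V3" => Fin (1 + 1 + 1) → F
local notation "G3" => G 1 F q

variable {ι : Type*} [Fintype ι] [MulAction (G 1 F q) ι] (W : ι → AddSubgroup (Fin (1 + 1 + 1) → F))

/-- The number of groups containing a vector. -/
noncomputable def nw (v : Fin (1 + 1 + 1) → F) : ℕ := Nat.card {o : ι // v ∈ W o}

theorem nw_pos {o : ι} {v : V3} (hv : v ∈ W o) : 0 < nw W v :=
  haveI : Nonempty {o : ι // v ∈ W o} := ⟨⟨o, hv⟩⟩
  Nat.card_pos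

theorem nw_act (hW : ∀ (g : G3) (o : ι) (v : V3), suMat g *ᵥ v ∈ W (g • o) ↔ v ∈ W o) (g : G3) (v : V3) :
    nw W (suMat g *ᵥ v) = nw W v :=
  (Nat.card_congr (Equiv.subtypeEquiv (MulAction.toPerm g) fun o => (hW g o v).symm)).symm

theorem sum_nw [Fintype F] : ∑ o, Nat.card (W o) = ∑ v, nw W v := by
  simp only [nw, Nat.card_eq_fintype_card, Fintype.card_subtype, Finset.card_filter]
  exact Finset.sum_comm

include hF

/-- The numbers of vectors by length. -/
theorem level_card {μ : F} :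
    (μ = 0 → Nat.card {v : V3 // v ≠ 0 ∧ hh v v = μ} = (q ^ 3 + 1) * (q ^ 2 - 1)) ∧
      (μ ≠ 0 → μ ^ q = μ → Nat.card {v : V3 // v ≠ 0 ∧ hh v v = μ} = q ^ 5 + q ^ 2) ∧
        (μ ^ q ≠ μ → Nat.card {v : V3 // v ≠ 0 ∧ hh v v = μ} = 0) := by
  have hq := two_le_q hF
  refine ⟨fun h => ?_, fun h hμq => ?_, fun h => ?_⟩
  · subst h
    have h1 := card_isoPt hF (1 + 1 + 1)
    rw [card_isoPt_three hF] at h1
    have e : Nat.card {v : V3 // v ≠ 0 ∧ hh v v = 0} + 1 = numLen F q (1 + 1 + 1) 0 := by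
      haveI := Fintype.ofFinite F
      rw [numLen, Nat.card_eq_fintype_card, Nat.card_eq_fintype_card, Fintype.card_subtype, Fintype.card_subtype,
        ← Finset.filter_filter, Finset.filter_comm, Finset.filter_ne' _ (0 : V3),
        Finset.card_erase_add_one]
      simp only [Finset.mem_filter, Finset.mem_univ, true_and]
      simp [Cfsg.hermForm]
    omega
  · have e : Nat.card {v : V3 // v ≠ 0 ∧ hh v v = μ} = numLen F q (1 + 1 + 1) μ :=
      Nat.card_congr (Equiv.subtypeEquivRight fun v => ⟨And.right, fun hv =>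
        ⟨fun e0 => h (by rw [← hv, e0]; simp [Cfsg.hermForm]), hv⟩⟩)
    rw [e, numLen_eq_one hF h hμq]
    have h1 := numLen_one (F := F) hF (1 + 1 + 1)
    zify
    refine mul_left_cancel₀ (show (q : ℤ) ≠ 0 by omega) ?_
    rw [h1]
    ring
  · rw [Nat.card_eq_zero]
    exact Or.inl ⟨fun v => h (v.2.2 ▸ herm_self_fixed hF v.1)⟩

/-- Vectors with a common line stabiliser bound the orbit. -/
theorem level_le_orbit (o : ι) {z : V3} (hz : z ≠ 0)
    (hfix : ∀ l : G3, l • o = o → ∃ c : F, suMat l *ᵥ z = c • z) :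
    Nat.card {v : V3 // v ≠ 0 ∧ hh v v = hh z z} ≤ Nat.card ι * (q ^ 2 - 1) := by
  have hex : ∀ v : {v : V3 // v ≠ 0 ∧ hh v v = hh z z}, ∃ s : G3, suMat s *ᵥ z = v.1 := fun v =>
    exists_level hF hz v.2.1 v.2.2.symm
  choose s hs using hex
  let sel : ι → G3 := fun o' => if h : ∃ g : G3, g • o = o' then h.choose else 1
  have hsel : ∀ v, sel (s v • o) • o = s v • o := fun v => by
    have h : ∃ g : G3, g • o = s v • o := ⟨s v, rfl⟩
    simp only [sel, dif_pos h]
    exact h.choose_spec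
  have hc : ∀ v, ∃ c : Fˣ, v.1 = (c : F) • (suMat (sel (s v • o)) *ᵥ z) := fun v => by
    obtain ⟨c, hc⟩ := hfix ((sel (s v • o))⁻¹ * s v) (by rw [mul_smul, inv_smul_eq_iff, hsel v])
    rw [suMat_mul, ← Matrix.mulVec_mulVec, hs] at hc
    have h := su_inv_mulVec (sel (s v • o))⁻¹ v.1
    rw [inv_inv, hc, Matrix.mulVec_smul] at h
    have hc0 : c ≠ 0 := fun e => v.2.1 (by rw [← h, e, zero_smul])
    exact ⟨Units.mk0 c hc0, h.symm⟩
  choose c hc using hc
  refine (Nat.card_le_card_of_injective (fun v => (s v • o, c v)) fun v w h => Subtype.ext ?_).trans_eq ?_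
  · simp only [Prod.mk.injEq] at h
    rw [hc v, hc w, h.1, h.2]
  · rw [Nat.card_prod, Nat.card_units, hF]

variable (hW : ∀ (g : G 1 F q) (o : ι) (v : Fin (1 + 1 + 1) → F), suMat g *ᵥ v ∈ W (g • o) ↔ v ∈ W o)
  (hcard : ∀ o, q ^ 3 ≤ Nat.card (W o))
include hW hcard

/-- One group for each isotropic line. -/
theorem single_iso [Nonempty ι] (huniq : ∀ v : V3, v ≠ 0 → hh v v = 0 → nw W v = 1)
    (hmoved : ∃ (g : G3) (o : ι), g • o ≠ o) :
    (q ^ 3 + 1) * ((q + 2) * q ^ 2) ≤ ∑ o, Nat.card (W o) := by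
  haveI := Fintype.ofFinite F
  have hq := two_le_q hF
  have hq0 : q ≠ 0 := by omega
  have huq : ∀ v : V3, v ≠ 0 → hh v v = 0 → ∀ o o' : ι, v ∈ W o → v ∈ W o' → o = o' :=
    fun v hv hvv o o' ho ho' => by
      haveI := (Nat.card_eq_one_iff_unique.1 (huniq v hv hvv)).1
      exact congrArg Subtype.val (Subsingleton.elim (⟨o, ho⟩ : {o : ι // v ∈ W o}) ⟨o', ho'⟩)
  obtain ⟨o₁, ho₁⟩ : ∃ o, ev (k := 1) hF ∈ W o := by
    obtain ⟨⟨o, ho⟩⟩ := (Nat.card_eq_one_iff_unique.1 (huniq _ (ev_ne_zero hF) (herm_ee hF))).2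
    exact ⟨o, ho⟩
  have hmul : ∀ c : F, hh (c • ev hF) (c • ev hF) = 0 := fun c => by
    rw [herm_smul_left, herm_smul_right hF, herm_ee hF, mul_zero, mul_zero]
  -- elements fixing `ev`
  have hfixe : ∀ g : G3, suMat g *ᵥ ev hF = ev hF → ∀ y ∈ W o₁, suMat g *ᵥ y ∈ W o₁ := fun g hg y hy => by
    have e : g • o₁ = o₁ := huq _ (ev_ne_zero hF) (herm_ee hF) _ _ (hg ▸ (hW g o₁ _).2 ho₁) ho₁
    rw [← e]
    exact (hW g o₁ y).2 hy
  obtain ⟨y, hy, hyne⟩ : ∃ y ∈ W o₁, ∀ c : F, y ≠ c • ev hF := by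
    by_contra hcon
    push Not at hcon
    have hco : ∀ u : W o₁, ∃ c : F, (u : V3) = c • ev hF := fun u => hcon _ u.2
    choose co hco using hco
    have h1 := (hcard o₁).trans
      (Nat.card_le_card_of_injective co fun a b h => Subtype.ext (by rw [hco a, hco b, h]))
    rw [hF] at h1
    have := Nat.pow_lt_pow_right (show 1 < q by omega) (show 2 < 3 by norm_num)
    omega
  have hrad : ∀ a : F, ∃ r : G3, suMat r *ᵥ ev hF = ev hF ∧
      ∀ u, suMat r *ᵥ u - u ∈ ({x | ∃ t : F, x = (hh u (ev hF) * a) • wv + t • ev hF} : Set V3) ∧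
        (hh u (ev hF) = 0 → suMat r *ᵥ u - u = -(hh u wv * a ^ q) • ev hF) := fun a => by
    obtain ⟨s, hs⟩ := exists_heis (k := 1) (q := q) hF (fun _ => a)
    refine ⟨rad hF (fun _ => a) s hs, by rw [rad_apply hF, herm_ee hF, herm_ev_emb hF]; simp,
      fun u => ⟨⟨s * hh u (ev hF) - hh u (emb fun _ => a), ?_⟩, fun h0 => ?_⟩⟩
    · rw [rad_apply hF, emb_eq_smul, smul_smul]; abel
    · rw [rad_apply hF, emb_eq_smul, h0, herm_smul_right hF, mul_comm (a ^ q)]
      simp
  obtain ⟨y1, hy1, hy1e, hy1w⟩ : ∃ y1 ∈ W o₁, hh y1 (ev hF) = 0 ∧ hh y1 wv ≠ 0 := by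
    by_cases hm : hh y (ev hF) = 0
    · refine ⟨y, hy, hm, fun hc => hyne (hh y (fv hF)) ?_⟩
      conv_lhs => rw [expand hF y, hm, hc, zero_smul, zero_smul, zero_add, add_zero]
    · obtain ⟨r, hre, hr⟩ := hrad 1
      obtain ⟨t, ht⟩ := (hr y).1
      refine ⟨_, (W o₁).sub_mem (hfixe r hre y hy) hy, ?_, ?_⟩ <;> rw [ht]
      · simp only [herm_add_left, herm_smul_left, herm_we hF, herm_ee hF, mul_zero, add_zero]
      · simp only [herm_add_left, herm_smul_left, herm_ww hF, herm_ew hF, mul_zero, add_zero, mul_one]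
        exact hm
  have hline : ∀ t : F, t • ev hF ∈ W o₁ := fun t => by
    obtain ⟨r, hre, hr⟩ := hrad ((-t / hh y1 wv) ^ q)
    have h := (W o₁).sub_mem (hfixe r hre y1 hy1) hy1
    rw [(hr y1).2 hy1e, pow_q_q hF] at h
    rwa [show -(hh y1 wv * (-t / hh y1 wv)) = t by rw [mul_div_cancel₀ _ hy1w, neg_neg]] at h
  have hbor : ∀ (g : G3) (c : F), suMat g *ᵥ ev hF = c • ev hF → g • o₁ = o₁ := fun g c hg => by
    have hc : c • ev hF ≠ 0 := hg ▸ su_mulVec_ne_zero g (ev_ne_zero hF)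
    exact huq _ hc (hmul c) _ _ (hg ▸ (hW g o₁ _).2 ho₁) (hline c)
  have hlines : ∀ (o : ι) (v : V3), v ≠ 0 → hh v v = 0 → v ∈ W o → ∀ c : F, c • v ∈ W o := by
    intro o v hv hvv hvo c
    obtain ⟨g, rfl⟩ := exists_SU_vec hF (by norm_num) (ev_ne_zero (k := 1) hF) hv (herm_ee hF) hvv
    rw [huq _ hv hvv o (g • o₁) hvo ((hW g o₁ _).2 ho₁), ← Matrix.mulVec_smul]
    exact (hW g o₁ _).2 (hline c)
  by_cases hex : ∃ u ∈ W o₁, hh u u = 0 ∧ hh u (ev hF) ≠ 0
  · exfalso
    obtain ⟨u, hu, huu, hue⟩ := hex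
    have hu0 : u ≠ 0 := fun e => hue (by rw [e]; simp [Cfsg.hermForm])
    obtain ⟨r, hre, hrf⟩ := exists_rad_fv hF (y := (hh u (ev hF))⁻¹ • u)
      (by rw [herm_smul_left, herm_smul_right hF, huu, mul_zero, mul_zero])
      (by rw [herm_smul_left, inv_mul_cancel₀ hue])
    have hfv : fv hF ∈ W o₁ := by
      have h := hfixe r⁻¹ (by conv_lhs => rw [← hre]; exact su_inv_mulVec r _) _
        (hlines o₁ u hu0 huu hu (hh u (ev hF))⁻¹)
      rw [← hrf, su_inv_mulVec] at h
      exact h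
    have hall : ∀ x : V3, hh x x = 0 → x ∈ W o₁ := by
      intro x hx
      by_cases hxe : hh x (ev hF) = 0
      · rw [iso_perp_ev hF hx hxe]; exact hline _
      · obtain ⟨r', hre', hrf'⟩ := exists_rad_fv hF (y := (hh x (ev hF))⁻¹ • x)
          (by rw [herm_smul_left, herm_smul_right hF, hx, mul_zero, mul_zero])
          (by rw [herm_smul_left, inv_mul_cancel₀ hxe])
        have h := hfixe r' hre' _ hfv
        rw [hrf'] at h
        have h2 := hlines o₁ _ (smul_ne_zero (inv_ne_zero hxe) fun e => hxe (by rw [e]; simp [Cfsg.hermForm]))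
          (by rw [herm_smul_left, herm_smul_right hF, hx, mul_zero, mul_zero]) h (hh x (ev hF))
        rwa [smul_smul, mul_inv_cancel₀ hxe, one_smul] at h2
    have htop : ∀ x : V3, x ∈ W o₁ := fun x => by
      have hx : x ∈ Submodule.span F {x : V3 | hh x x = 0} := by
        rw [iso_span_top hF (by norm_num)]; trivial
      refine Submodule.span_induction (p := fun x _ => ∀ c : F, c • x ∈ W o₁) (fun x hx c => hall _ ?_)
        (fun c => by rw [smul_zero]; exact (W o₁).zero_mem)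
        (fun a b _ _ ha hb c => by rw [smul_add]; exact (W o₁).add_mem (ha c) (hb c))
        (fun a x _ hx c => by rw [smul_smul]; exact hx _) hx 1 |> fun h => by rwa [one_smul] at h
      rw [herm_smul_left, herm_smul_right hF, show hh x x = 0 from hx, mul_zero, mul_zero]
    obtain ⟨g, o, hgo⟩ := hmoved
    have key : ∀ o : ι, o = o₁ := fun o => by
      obtain ⟨v, hv, hv0, hvv⟩ := exists_iso_mem hF (W o) (hcard o)
      exact huq v hv0 hvv o o₁ hv (htop v)
    exact hgo ((key _).trans (key o).symm)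
  push Not at hex
  -- the groups of different points differ
  haveI := isPretransitive (n := 1 + 1 + 1) hF
  set P₀ := pt hF (ev (k := 1) hF) (ev_ne_zero hF) (herm_ee hF)
  have hgsel : ∀ P : IsoPt (1 + 1 + 1) F q, ∃ g : G3, g • P₀ = P := fun P => MulAction.exists_smul_eq _ _ P
  choose gsel hgsel using hgsel
  have hinj : Function.Injective fun P => gsel P • o₁ := fun P P' h => by
    simp only at h
    have h1 : ((gsel P')⁻¹ * gsel P) • o₁ = o₁ := by rw [mul_smul, h, inv_smul_smul]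
    have h2 : suMat ((gsel P')⁻¹ * gsel P) *ᵥ ev hF ∈ W o₁ := by
      have := (hW ((gsel P')⁻¹ * gsel P) o₁ _).2 ho₁
      rwa [h1] at this
    have h3 : hh (suMat ((gsel P')⁻¹ * gsel P) *ᵥ ev hF) (suMat ((gsel P')⁻¹ * gsel P) *ᵥ ev hF) = 0 := by
      rw [su_preserves, herm_ee hF]
    have h4 : ((gsel P')⁻¹ * gsel P) • P₀ = P₀ := by
      rw [smul_pt, pt_eq_iff]
      exact ⟨_, (iso_perp_ev hF h3 (hex _ h2 h3)).symm⟩
    rw [← hgsel P, ← hgsel P']
    conv_rhs => rw [← h4, ← mul_smul, mul_inv_cancel_left]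
  have hbig : ∀ P, (q + 2) * q ^ 2 ≤ Nat.card (W (gsel P • o₁)) := by
    intro P
    have hnu : ∀ μ : {μ : F // μ ^ (q + 1) = 1}, ∃ x ∈ W o₁, hh x (ev hF) = 0 ∧ hh x wv = μ.1 * hh y1 wv := by
      rintro ⟨μ, hμ⟩
      obtain ⟨lam, hl, hlμ⟩ : ∃ lam : F, lam ≠ 0 ∧ lam ^ q / lam = μ := by
        by_cases h : μ = -1
        · obtain ⟨d, hd, hdS⟩ := exists_delta hF
          refine ⟨d, hd, ?_⟩
          rw [show d ^ q = -d by linear_combination (mem_skew_iff hF).1 hdS, neg_div, div_self hd, h]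
        · refine ⟨1 + μ ^ q, ?_, ?_⟩
          · intro e
            apply h
            have : μ ^ q = -1 := by linear_combination e
            rw [← pow_q_q hF μ, this, ← frobQ_apply hF (-1 : F), map_neg, map_one]
          · have hne : 1 + μ ^ q ≠ 0 := by
              intro e
              apply h
              have : μ ^ q = -1 := by linear_combination e
              rw [← pow_q_q hF μ, this, ← frobQ_apply hF (-1 : F), map_neg, map_one]
            rw [div_eq_iff hne, ← frobQ_apply hF (1 + μ ^ q), map_add, map_one, frobQ_apply, pow_q_q hF]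
            linear_combination -hμ
      obtain ⟨g, hg⟩ := exists_scale_ev (k := 1) hF hl (by norm_num)
      have hgB : g ∈ Bor hF := (mem_Bor_iff hF).2 ⟨lam, hg⟩
      have hlam : MinIdxU3.lam hF g = lam := by rw [MinIdxU3.lam, hg, herm_smul_left, herm_ef hF, mul_one]
      refine ⟨suMat g *ᵥ y1, ?_, ?_, ?_⟩
      · rw [← hbor g lam hg]; exact (hW g o₁ _).2 hy1
      · have h := su_preserves g y1 (ev hF)
        rw [hg, herm_smul_right hF, hy1e] at h
        exact (mul_eq_zero.1 h).resolve_left (pow_ne_zero _ hl)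
      · conv_lhs => rw [expand hF y1, hy1e]
        simp only [Matrix.mulVec_add, Matrix.mulVec_smul, zero_smul, add_zero, herm_add_left, herm_smul_left,
          Bor_ev hF hgB, herm_ew hF, mul_zero]
        rw [Bor_nu hF hgB, hlam, hlμ]
        exact mul_comm _ _
    choose x hx hxe hxw using hnu
    let pick : Option {μ : F // μ ^ (q + 1) = 1} → V3 := fun o => o.elim 0 x
    have hpick : ∀ o, pick o ∈ W o₁ := fun o => by
      cases o with
      | none => exact (W o₁).zero_mem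
      | some m => exact hx m
    have h1 : Nat.card (Option {μ : F // μ ^ (q + 1) = 1} × F) = (q + 2) * q ^ 2 := by
      rw [Nat.card_prod, Finite.card_option, card_norm_fiber hF one_ne_zero (one_pow q), hF]
    rw [← h1]
    refine Nat.card_le_card_of_injective (fun m => (⟨suMat (gsel P) *ᵥ (pick m.1 + m.2 • ev hF),
      (hW _ _ _).2 ((W o₁).add_mem (hpick m.1) (hline m.2))⟩ : W (gsel P • o₁))) fun a b h => ?_
    have h' : pick a.1 + a.2 • ev hF = pick b.1 + b.2 • ev hF := by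
      have := congrArg (fun u : W (gsel P • o₁) => suMat (gsel P)⁻¹ *ᵥ (u : V3)) h
      simpa only [su_inv_mulVec] using this
    have hw : hh (pick a.1) wv = hh (pick b.1) wv := by
      have := congrArg (fun u => hh u wv) h'
      simpa only [herm_add_left, herm_smul_left, herm_ew hF, mul_zero, add_zero] using this
    have ha : a.1 = b.1 := by
      have hne : ∀ m : {μ : F // μ ^ (q + 1) = 1}, hh (x m) wv ≠ 0 := fun m => by
        rw [hxw]
        refine mul_ne_zero (fun e => ?_) hy1w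
        have := m.2
        rw [e, zero_pow (by omega)] at this
        exact zero_ne_one this
      rcases a with ⟨_ | ma, ta⟩ <;> rcases b with ⟨_ | mb, tb⟩ <;> simp only [pick, Option.elim] at hw
      · rfl
      · exact absurd (hw.symm.trans (by simp [Cfsg.hermForm])) (hne mb)
      · exact absurd (hw.trans (by simp [Cfsg.hermForm])) (hne ma)
      · rw [hxw, hxw] at hw
        exact congrArg some (Subtype.ext (mul_right_cancel₀ hy1w hw))
    refine Prod.ext ha ?_
    rw [ha] at h'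
    exact smul_left_injective F (ev_ne_zero hF) (add_left_cancel h')
  haveI : Finite (IsoPt (1 + 1 + 1) F q) := finite_isoPt hF
  haveI := Fintype.ofFinite (IsoPt (1 + 1 + 1) F q)
  calc (q ^ 3 + 1) * ((q + 2) * q ^ 2) = ∑ _P : IsoPt (1 + 1 + 1) F q, (q + 2) * q ^ 2 := by
        rw [Finset.sum_const, smul_eq_mul, Finset.card_univ, ← Nat.card_eq_fintype_card, card_isoPt_three hF]
    _ ≤ ∑ P : IsoPt (1 + 1 + 1) F q, Nat.card (W (gsel P • o₁)) := Finset.sum_le_sum fun P _ => hbig P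
    _ = ∑ o ∈ Finset.univ.image (fun P => gsel P • o₁), Nat.card (W o) :=
        (Finset.sum_image (f := fun o => Nat.card (W o)) fun P _ P' _ h => hinj h).symm
    _ ≤ _ := Finset.sum_le_sum_of_subset (Finset.subset_univ _)

/-- The total size of a moved family. -/
theorem family_bound (hmoved : ∃ (g : G3) (o : ι), g • o ≠ o) :
    q ^ 6 + q ^ 4 + q + 1 ≤ ∑ o, Nat.card (W o) := by
  haveI := Fintype.ofFinite F
  have hq := two_le_q hF
  obtain ⟨g₀, o₀, ho₀⟩ := hmoved
  haveI : Nonempty ι := ⟨o₀⟩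
  have hL2 : 2 ≤ Nat.card ι := by
    haveI : Nontrivial ι := ⟨⟨g₀ • o₀, o₀, ho₀⟩⟩
    exact Finite.one_lt_card
  obtain ⟨e, he, he0, hee⟩ := exists_iso_mem hF (W o₀) (hcard o₀)
  have hnw : ∀ u v : V3, u ≠ 0 → v ≠ 0 → hh u u = hh v v → nw W u = nw W v := fun u v hu hv h => by
    obtain ⟨s, rfl⟩ := exists_level hF hu hv h
    exact (nw_act W hW s u).symm
  have hb := nw_pos W he
  by_cases hb1 : nw W e = 1
  · refine le_trans ?_ (single_iso hF W hW hcard (fun v hv hvv => ?_) ⟨g₀, o₀, ho₀⟩)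
    · have h2 : q ^ 4 + q + 1 ≤ 2 * q ^ 5 + q ^ 3 := by
        have := Nat.pow_le_pow_right (show 1 ≤ q by omega) (show 4 ≤ 5 by norm_num)
        have := Nat.le_self_pow (show 3 ≠ 0 by norm_num) q
        have := Nat.le_self_pow (show 5 ≠ 0 by norm_num) q
        omega
      calc q ^ 6 + q ^ 4 + q + 1 ≤ q ^ 6 + (2 * q ^ 5 + q ^ 3) + 2 * q ^ 2 := by omega
        _ = _ := by ring
    · rw [hnw v e hv he0 (hvv.trans hee.symm), hb1]
  let a : F → ℕ := fun μ => if h : ∃ v : V3, v ≠ 0 ∧ hh v v = μ then nw W h.choose else 0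
  have ha : ∀ v : V3, v ≠ 0 → a (hh v v) = nw W v := fun v hv => by
    have h : ∃ u : V3, u ≠ 0 ∧ hh u u = hh v v := ⟨v, hv, rfl⟩
    simp only [a, dif_pos h]
    exact hnw _ _ h.choose_spec.1 hv h.choose_spec.2
  have ha0 : a 0 = nw W e := by rw [← hee, ha e he0]
  set R := ∑ μ ∈ Finset.univ.erase (0 : F), a μ with hR
  have hN : ∑ o, Nat.card (W o) =
      Nat.card ι + ((q ^ 3 + 1) * (q ^ 2 - 1) * a 0 + (q ^ 5 + q ^ 2) * R) := by
    rw [sum_nw W, ← Finset.add_sum_erase _ _ (Finset.mem_univ (0 : V3)),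
      show nw W (0 : V3) = Nat.card ι from Nat.card_congr (Equiv.subtypeUnivEquiv fun o => (W o).zero_mem)]
    congr 1
    rw [Finset.sum_congr rfl (g := fun v => a (hh v v)) (fun v hv => (ha v (Finset.mem_erase.1 hv).1).symm),
      ← Finset.sum_fiberwise' (Finset.univ.erase (0 : V3)) (fun v => hh v v) a,
      ← Finset.add_sum_erase _ _ (Finset.mem_univ (0 : F)), Finset.mul_sum]
    have hcardμ : ∀ μ, ((Finset.univ.erase (0 : V3)).filter fun v => hh v v = μ).card =
        Nat.card {v : V3 // v ≠ 0 ∧ hh v v = μ} := fun μ => by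
      rw [Nat.card_eq_fintype_card, Fintype.card_subtype]
      refine congrArg Finset.card (Finset.ext fun v => ?_)
      simp
    congr 1
    · rw [Finset.sum_const, smul_eq_mul, hcardμ, (level_card hF (μ := (0 : F))).1 rfl]
    · refine Finset.sum_congr rfl fun μ hμ => ?_
      rw [Finset.sum_const, smul_eq_mul, hcardμ]
      by_cases hμq : μ ^ q = μ
      · rw [(level_card hF (μ := μ)).2.1 (Finset.mem_erase.1 hμ).1 hμq]
      · rw [(level_card hF (μ := μ)).2.2 hμq, zero_mul,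
          show a μ = 0 from dif_neg fun ⟨v, _, hv⟩ => hμq (hv ▸ herm_self_fixed hF v), mul_zero]
  -- an anisotropic weight
  have hR1 : 1 ≤ R := by
    by_contra hR0
    have hzero : ∀ μ : F, μ ≠ 0 → a μ = 0 := fun μ hμ =>
      Finset.sum_eq_zero_iff.1 (show R = 0 by omega) μ (Finset.mem_erase.2 ⟨hμ, Finset.mem_univ _⟩)
    have hiso : ∀ v ∈ W o₀, hh v v = 0 := fun v hv => by
      by_contra hne
      have hv0 : v ≠ 0 := fun h => hne (by rw [h]; simp [Cfsg.hermForm])
      have := hzero _ hne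
      rw [ha v hv0] at this
      exact (nw_pos W hv).ne' this
    have h := (trace_zero_shape hF (W o₀ : Set V3) hiso (fun v hv w hw => by
      have h := hiso _ ((W o₀).add_mem hv hw)
      rw [herm_add_left, herm_add_right hF, herm_add_right hF, hiso v hv, hiso w hw] at h
      linear_combination h) ⟨e, he, he0⟩).1
    have := (hcard o₀).trans h
    have := Nat.pow_lt_pow_right (show 1 < q by omega) (show 2 < 3 by norm_num)
    omega
  rw [ha0] at hN
  have hsq : 1 ≤ q ^ 2 := Nat.one_le_pow _ _ (by omega)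
  have hb2 : 2 ≤ nw W e := by omega
  rcases Nat.lt_or_ge (nw W e + R) (q + 1) with hT | hT
  swap
  · rw [hN]
    zify [hsq]
    have hbZ : (2 : ℤ) ≤ nw W e := by exact_mod_cast hb2
    have hTZ : (q : ℤ) + 1 ≤ nw W e + R := by exact_mod_cast hT
    have hLZ : (2 : ℤ) ≤ Nat.card ι := by exact_mod_cast hL2
    have hqZ : (2 : ℤ) ≤ q := by exact_mod_cast hq
    have hI : (0 : ℤ) ≤ ((q : ℤ) ^ 3 + 1) * ((q : ℤ) ^ 2 - 1) :=
      mul_nonneg (by positivity) (by nlinarith)
    have h1 := mul_le_mul_of_nonneg_left hTZ hI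
    have h2 : ((q : ℤ) ^ 3 + 1) * ((q : ℤ) ^ 2 - 1) * R ≤ ((q : ℤ) ^ 5 + (q : ℤ) ^ 2) * R := by
      refine mul_le_mul_of_nonneg_right ?_ (by positivity)
      nlinarith [show (0 : ℤ) ≤ (q : ℤ) ^ 3 by positivity]
    have h3 : (q : ℤ) ^ 6 + q ^ 4 + q + 1 ≤ 2 + ((q : ℤ) ^ 3 + 1) * ((q : ℤ) ^ 2 - 1) * (q + 1) := by
      nlinarith [mul_nonneg (show (0 : ℤ) ≤ (q : ℤ) ^ 4 by positivity) (show (0 : ℤ) ≤ (q : ℤ) - 2 by omega),
        mul_nonneg (show (0 : ℤ) ≤ (q : ℤ) by positivity) (show (0 : ℤ) ≤ (q : ℤ) - 2 by omega)]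
    nlinarith
  -- few lengths
  exfalso
  have hR2 : R + 2 ≤ q := by omega
  have hq3 : 3 ≤ q := by omega
  have hLlt : Nat.card ι < q ^ 3 := by
    have hle : Nat.card ι * q ^ 3 ≤ ∑ o, Nat.card (W o) := by
      rw [Nat.card_eq_fintype_card, ← Finset.card_univ, ← smul_eq_mul, ← Finset.sum_const]
      exact Finset.sum_le_sum fun o _ => hcard o
    rw [hN] at hle
    zify [hsq] at hle ⊢
    have hbZ : (2 : ℤ) ≤ nw W e := by exact_mod_cast hb2
    have hTZ : (nw W e : ℤ) + R ≤ q := by exact_mod_cast (show nw W e + R ≤ q by omega)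
    by_contra hlt
    push Not at hlt
    have h1 := mul_le_mul_of_nonneg_right hlt (show (0 : ℤ) ≤ (q : ℤ) ^ 3 - 1 by
      have : (1 : ℤ) ≤ (q : ℤ) ^ 3 := one_le_pow₀ (by omega)
      omega)
    have h2 := mul_le_mul_of_nonneg_left hTZ (show (0 : ℤ) ≤ (q : ℤ) ^ 5 + (q : ℤ) ^ 2 by positivity)
    have h3 := mul_le_mul_of_nonneg_right hbZ (show (0 : ℤ) ≤ (q : ℤ) ^ 3 + 1 by positivity)
    nlinarith
  by_cases h5 : q = 5
  · -- a missing length
    obtain ⟨μ, hμ0, hμq, haμ⟩ : ∃ μ : F, μ ≠ 0 ∧ μ ^ q = μ ∧ a μ = 0 := by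
      by_contra hcon
      push Not at hcon
      have h1 : ((Finset.univ.erase (0 : F)).filter fun μ => μ ^ q = μ).card ≤ R := by
        refine le_trans ?_ (Finset.sum_le_sum_of_subset (f := a) (Finset.filter_subset (fun μ : F => μ ^ q = μ) _))
        rw [Finset.card_eq_sum_ones]
        refine Finset.sum_le_sum fun μ hμ => ?_
        rw [Finset.mem_filter, Finset.mem_erase] at hμ
        exact Nat.pos_of_ne_zero (hcon μ hμ.1.1 hμ.2)
      have h2 : ((Finset.univ.erase (0 : F)).filter fun μ => μ ^ q = μ).card + 1 = q := by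
        rw [Finset.filter_erase, Finset.card_erase_add_one (by simp [zero_pow (show q ≠ 0 by omega)])]
        rw [← Fintype.card_subtype (fun μ : F => μ ^ q = μ), ← Nat.card_eq_fintype_card]
        exact (card_fix_skew hF).1
      omega
    haveI : Fact (Nat.Prime q) := ⟨h5 ▸ Nat.prime_five⟩
    set S : Set V3 := {v | v ∈ W o₀ ∧ hh v v = 0}
    have htr : ∀ v ∈ S, ∀ w ∈ S, hh v w + hh w v = 0 := by
      rintro v ⟨hv, hvv⟩ w ⟨hw, hww⟩
      by_contra hne
      set t : Fix hF := ⟨hh v w + hh w v, by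
        change (hh v w + hh w v) ^ q = _
        rw [← frobQ_apply hF (hh v w + hh w v), map_add, frobQ_apply, frobQ_apply, ← herm_swap hF v w,
          ← herm_swap hF w v, add_comm]⟩
      have ht : t ≠ 0 := fun h => hne (congrArg Subtype.val h)
      have htop := zmultiples_eq_top_of_prime_card (card_fix_skew hF).1 ht
      obtain ⟨n, hn⟩ := AddSubgroup.mem_zmultiples_iff.1 (htop ▸ AddSubgroup.mem_top (⟨μ, hμq⟩ : Fix hF))
      have hn' : (n : F) * (hh v w + hh w v) = μ := by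
        rw [← zsmul_eq_mul]
        exact congrArg Subtype.val hn
      set x := n • v + w
      have hx : x ∈ W o₀ := (W o₀).add_mem ((W o₀).zsmul_mem hv n) hw
      have hxx : hh x x = μ := by
        rw [show x = (n : F) • v + w by rw [Int.cast_smul_eq_zsmul], herm_add_left, herm_add_right hF,
          herm_add_right hF, herm_smul_left, herm_smul_right hF, herm_smul_left, herm_smul_right hF, hvv, hww,
          show (n : F) ^ q = n by rw [← frobQ_apply hF, map_intCast], ← hn']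
        ring
      have hx0 : x ≠ 0 := fun h => hμ0 (by rw [← hxx, h]; simp [Cfsg.hermForm])
      rw [← hxx, ha x hx0] at haμ
      exact (nw_pos W hx).ne' haμ
    obtain ⟨-, z, hz, hfix⟩ := trace_zero_shape hF S (fun v hv => hv.2) htr ⟨e, ⟨he, hee⟩, he0⟩
    have hle := level_le_orbit hF o₀ hz fun l hl => hfix l fun u hu =>
      ⟨by have := (hW l o₀ u).2 hu.1; rwa [hl] at this, by rw [su_preserves, hu.2]⟩
    have hlev : (q ^ 3 + 1) * (q ^ 2 - 1) ≤ Nat.card {v : V3 // v ≠ 0 ∧ hh v v = hh z z} := by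
      by_cases h0 : hh z z = 0
      · rw [(level_card hF).1 h0]
      · rw [(level_card hF).2.1 h0 (herm_self_fixed hF z), h5]
        norm_num
    have h1 := Nat.le_of_mul_le_mul_right (hlev.trans hle) (q_sq_sub_pos hF)
    omega
  · -- the orbit of a moved member
    have hS : MulAction.stabilizer G3 o₀ ≠ ⊤ := fun h => ho₀
      (MulAction.mem_stabilizer_iff.1 (h ▸ Subgroup.mem_top g₀))
    have h1 : q ^ 3 + 1 ≤ Nat.card ι := by
      refine (su_three_bound hF hq3 h5 hS).trans ?_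
      rw [MulAction.index_stabilizer, ← Nat.card_coe_set_eq]
      exact Nat.card_le_card_of_injective _ Subtype.val_injective
    omega

end CfsgLib.MinIdxU5
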