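import Cfsg.Agent.MinIdxU5.Family
import Cfsg.Agent.MinIdxPSU.Four
import Cfsg.Agent.MinIdxPSU.Conclude

/-!
The minimal index of the special unitary group of dimension five, and in dimension at least seven over four elements.
-/

set_option autoImplicit false
set_option linter.style.haveILetI false
set_option linter.unusedSectionVars false

namespace CfsgLib.MinIdxU5

open Matrix CfsgLib.Unitary CfsgLib.Forms CfsgLib.MinIdxPSU AddAction
open scoped Classical

variable {F : Type*} [Field F] [Finite F] {q k : ℕ} (hF : Nat.card F = q ^ 2)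

include hF

variable (X : Type*) [MulAction (G k F q) X] [Finite X]

/-- The complement carries weight groups to weight groups. -/
theorem wt_smul (l : Cfsg.SU k F q) (o : LOrb hF k X) (v : Fin k → F) :
    suMat l *ᵥ v ∈ wtB (pairV hF k) (psi₂ hF) (l • o : LOrb hF k X) ↔
      v ∈ wtB (pairV hF k) (psi₂ hF) (show AOrb (M := Fin k → F) (NSet hF k X) from o) := by
  let f : (Fin k → F) ≃+ (Fin k → F) :=
    { toFun := fun a => suMat l *ᵥ a
      invFun := fun a => suMat l⁻¹ *ᵥ a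
      left_inv := fun a => su_inv_mulVec l a
      right_inv := fun a => by
        have h := su_inv_mulVec l⁻¹ a
        rwa [inv_inv] at h
      map_add' := fun a b => Matrix.mulVec_add _ _ _ }
  obtain ⟨σ, hσ', hσ⟩ := exists_orbit_perm (B := pairV hF k) (ψ := psi₂ hF)
    (Equiv.ofBijective _ (Finite.injective_iff_bijective.1 (nmap_injective hF X (cz_levi (k := k) hF l)))) f f
    (fun a O => nmap_levi_vadd hF X l a O) (fun a v => by
      change psi₂ hF (pairV hF k (suMat l *ᵥ a) (suMat l *ᵥ v)) = _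
      rw [pairV_apply hF, pairV_apply hF, su_preserves])
  induction o using Quotient.inductionOn' with
  | h O =>
    refine Iff.trans ?_ (hσ (Quotient.mk'' O) v)
    rw [hσ' O]
    rfl

/-- An orbit fixed by the complement is regular. -/
theorem stab_eq_bot (hk : 3 ≤ k) (O : NSet hF k X)
    (h : ∀ l : Cfsg.SU k F q,
      l • (show LOrb hF k X from Quotient.mk'' O) = (show LOrb hF k X from Quotient.mk'' O)) :
    stabilizer (Fin k → F) O = ⊥ := by
  refine invariant_isotropic hF hk _ (fun l a ha => ?_) fun a ha b hb => stab_isotropic hF X O ha hb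
  obtain ⟨b, hb⟩ := orbitRel_apply.1 (Quotient.eq''.1 (h l))
  rw [← stab_vadd b O, show b +ᵥ O = nmap hF X (cz_levi hF l) O from hb, mem_stabilizer_iff,
    ← nmap_levi_vadd hF, mem_stabilizer_iff.1 ha]

omit X in
/-- The target is met when the radical has a regular orbit fixed by the complement. -/
theorem target_of_regular {H : Subgroup (G k F q)} (hk : 3 ≤ k) (h342 : ¬ ((k = 3 ∨ k = 4) ∧ q = 2)) {T : ℕ}
    (hI : T ≤ Nat.card (IsoPt (k + 1 + 1) F q)) (hB : (q + 1) * T ≤ numLen F q (k + 1 + 1) 1)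
    (O : NSet hF k (G k F q ⧸ H)) (hall : ∀ l : Cfsg.SU k F q, l • (show LOrb hF k (G k F q ⧸ H) from Quotient.mk'' O) =
      (show LOrb hF k (G k F q ⧸ H) from Quotient.mk'' O)) : T ≤ H.index := by
  have hA := stab_eq_bot hF (G k F q ⧸ H) hk O hall
  obtain ⟨x, hx, rfl⟩ := nset_exists hF (G k F q ⧸ H) O
  obtain ⟨z₁, hz₁⟩ : ∃ z : Skew hF, zE (k := k) hF z • x ≠ x := by
    by_contra hcon
    push Not at hcon
    refine one_ne_zero (psi₁_perfect hF (one_pow q) fun s hs => ?_)
    exact (sees_mk hF (G k F q ⧸ H) 1 _).1 hx ⟨s, hs⟩ (mem_stabilizer_iff.2 (hcon ⟨s, hs⟩))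
  set H' := MulAction.stabilizer (G k F q) x
  have hidx : H'.index = H.index := by
    rw [MulAction.index_stabilizer_of_transitive, Subgroup.index_eq_card]
  have hC : Covers hF H' := by
    refine ⟨fun l => ?_, fun a z h => ?_⟩
    · obtain ⟨b, hb⟩ := orbitRel_apply.1 (Quotient.eq''.1 (hall l))
      have hb' : (-b) +ᵥ nmap hF (G k F q ⧸ H) (cz_levi hF l) ⟨_, hx⟩ = ⟨_, hx⟩ := by
        rw [← show b +ᵥ (⟨_, hx⟩ : NSet hF k (G k F q ⧸ H)) = nmap hF (G k F q ⧸ H) (cz_levi hF l) ⟨_, hx⟩ from hb,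
          neg_vadd_vadd]
      obtain ⟨z, hz⟩ := orbitRel_apply.1 (Quotient.eq''.1 (congrArg Subtype.val hb'))
      have h : (vE (k := k) hF (-b) * levi l) • x = zE (k := k) hF z • x := (mul_smul _ _ x).trans hz.symm
      refine ⟨-b, -z, ?_⟩
      rw [MulAction.mem_stabilizer_iff, mul_assoc, mul_smul, h, ← mul_smul, ← zE_add, neg_add_cancel, zE_zero,
        one_smul]
    · have hmem : a ∈ stabilizer (Fin k → F) (⟨_, hx⟩ : NSet hF k (G k F q ⧸ H)) := by
        rw [mem_stabilizer_iff]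
        refine Subtype.ext (Quotient.sound' (orbitRel_apply.2 ⟨-z, ?_⟩))
        rw [MulAction.mem_stabilizer_iff, mul_smul] at h
        change zE (k := k) hF (-z) • x = vE hF a • x
        conv_lhs => rw [← h, ← mul_smul, ← zE_add, neg_add_cancel, zE_zero, one_smul]
      rwa [hA, AddSubgroup.mem_bot] at hmem
  obtain ⟨b, hb⟩ := exists_levi_le hC hk (two_le_q hF) h342
  set H'' := H'.map (MulAut.conj (vE hF b)).toMonoidHom
  have hidx' : H''.index = H.index := by
    rw [← hidx]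
    exact Subgroup.index_map_equiv H' (MulAut.conj (vE hF b))
  have hz : zE hF z₁ ∉ H'' := by
    rintro ⟨h, hh, he⟩
    change vE hF b * h * (vE hF b)⁻¹ = zE hF z₁ at he
    rw [mul_inv_eq_iff_eq_mul, zE_comm_vE hF, mul_right_inj] at he
    exact hz₁ (he ▸ MulAction.mem_stabilizer_iff.1 hh)
  have hO : Over hF H'' := ⟨hb, (covers_conj hC b).free, ⟨z₁, hz⟩, fun e => hz (e ▸ Subgroup.mem_top _)⟩
  rw [← hidx']
  rcases index_of_over hF hO hk (fun h => by omega) with h | h
  · exact hI.trans h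
  · exact Nat.le_of_mul_le_mul_left (hB.trans h) (by omega)

omit X in
/-- Moved orbits of the radical in dimension five. -/
theorem nset_of_moved {Y : Type*} [MulAction (G 3 F q) Y] [Finite Y] {l : Cfsg.SU 3 F q} {o : LOrb hF 3 Y}
    (h : l • o ≠ o) : q ^ 6 + q ^ 4 + q + 1 ≤ Nat.card (NSet hF 3 Y) := by
  haveI : Finite (LOrb hF 3 Y) := by unfold LOrb; infer_instance
  letI := Fintype.ofFinite (LOrb hF 3 Y)
  letI : MulAction (G 1 F q) (LOrb hF 3 Y) := inferInstanceAs (MulAction (Cfsg.SU 3 F q) (LOrb hF 3 Y))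
  have hb := family_bound hF (ι := LOrb hF 3 Y)
    (fun o => wtB (pairV hF 3) (psi₂ hF) (show AOrb (M := Fin 3 → F) (NSet hF 3 Y) from o))
    (fun g o v => wt_smul hF Y g o v) (fun o => le_card_wt hF Y _) ⟨l, o, h⟩
  letI : Fintype (AOrb (M := Fin 3 → F) (NSet hF 3 Y)) := ‹Fintype (LOrb hF 3 Y)›
  rw [card_eq_sum_wt (Y := NSet hF 3 Y) (pairV_perfect (k := 3) hF)]
  exact hb

omit X in
theorem card_isoPt_five : Nat.card (IsoPt (3 + 1 + 1) F q) = q ^ 7 + q ^ 5 + q ^ 2 + 1 := by
  have h := odd_isoPt hF (n := 5) (by decide)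
  have hq := two_le_q hF
  have h4 : 1 ≤ q ^ 4 := Nat.one_le_pow _ _ (by omega)
  have h2 : 1 ≤ q ^ 2 := Nat.one_le_pow _ _ (by omega)
  have h5 : (5 : ℕ) - 1 = 4 := rfl
  rw [h5] at h
  have hpos : 0 < q ^ 2 - 1 := MinIdxU3.q_sq_sub_pos hF
  refine Nat.eq_of_mul_eq_mul_right hpos (h.trans ?_)
  zify [h2, h4]
  ring

omit X in
/-- The bound in dimension five for at least nine elements. -/
theorem five_bound (hq : 3 ≤ q) {H : Subgroup (Cfsg.SU (3 + 1 + 1) F q)} (hH : H ≠ ⊤) :
    Nat.card (IsoPt (3 + 1 + 1) F q) ≤ H.index := by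
  obtain ⟨x₀, hx₀⟩ := exists_moved hF (k := 3) (by norm_num) (fun h => by omega) (H := H) hH
  obtain ⟨O⟩ := exists_nset (k := 3) hF (G 3 F q ⧸ H) x₀ hx₀ (by norm_num)
  by_cases hall : ∀ l : Cfsg.SU 3 F q, l • (show LOrb hF 3 (G 3 F q ⧸ H) from Quotient.mk'' O) =
      (show LOrb hF 3 (G 3 F q ⧸ H) from Quotient.mk'' O)
  · exact target_of_regular hF le_rfl (fun h => by omega) le_rfl (aniso_ge hF (by norm_num) hq) O hall
  · obtain ⟨l, hl⟩ := not_forall.1 hall
    have h1 := Nat.mul_le_mul_left q (nset_of_moved hF hl)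
    have h2 := q_mul_nset_le (k := 3) hF (G 3 F q ⧸ H) (by norm_num)
    rw [card_isoPt_five hF, Subgroup.index_eq_card]
    refine le_trans ?_ (h1.trans h2)
    calc q ^ 7 + q ^ 5 + q ^ 2 + 1 ≤ q ^ 7 + q ^ 5 + q ^ 2 + q := by omega
      _ = _ := by ring

end CfsgLib.MinIdxU5
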