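import Cfsg.Agent.MinIdxPSU.SixEleven
import Cfsg.Agent.MinIdxPSU.Bound
import Mathlib.GroupTheory.Sylow

/-!
Elements of order eleven in the special unitary group of dimension five over four elements.
-/

set_option autoImplicit false
set_option linter.style.haveILetI false
set_option linter.unusedSectionVars false

namespace CfsgLib.MinIdxU5

open Matrix CfsgLib.Unitary CfsgLib.Forms CfsgLib.MinIdxPSU Polynomial
open scoped Classical

variable {F : Type*} [Field F] [Finite F] (hF : Nat.card F = 2 ^ 2)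

local notation "V5" => Fin (3 + 1 + 1) → F

/-- The linear map of an element. -/
noncomputable def lin5 : G 3 F 2 →* Module.End F (Fin (3 + 1 + 1) → F) where
  toFun g := Matrix.toLin' (suMat g)
  map_one' := by rw [suMat_one, Matrix.toLin'_one]; rfl
  map_mul' g h := by rw [suMat_mul, Matrix.toLin'_mul]; rfl

theorem lin5_apply (g : G 3 F 2) (v : V5) : lin5 g v = suMat g *ᵥ v := Matrix.toLin'_apply _ _

include hF

/-- An element of order eleven acts irreducibly. -/
theorem eleven_irred {g : G 3 F 2} (hg : g ^ 11 = 1) (hg1 : g ≠ 1) (W : Submodule F V5)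
    (hW : ∀ y ∈ W, lin5 g y ∈ W) : W = ⊥ ∨ W = ⊤ := by
  letI : MulAction (G 3 F 2) V5 :=
    { smul := fun s v => suMat s *ᵥ v
      one_smul := fun v => by
        change suMat (1 : G 3 F 2) *ᵥ v = v
        rw [suMat_one, Matrix.one_mulVec]
      mul_smul := fun s t v => by
        change suMat (s * t) *ᵥ v = suMat s *ᵥ suMat t *ᵥ v
        rw [suMat_mul, Matrix.mulVec_mulVec] }
  have hp : Nat.Prime 11 := by norm_num
  have hcard : ∀ W : Submodule F V5, (W : Set V5).ncard = 4 ^ Module.finrank F W := fun W => by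
    rw [← Nat.card_coe_set_eq, show (4 : ℕ) = Nat.card F by rw [hF]; norm_num]
    exact Module.natCard_eq_pow_finrank
  have hpow : ∀ j ≤ 5, 4 ^ j ≡ 1 [MOD 11] → j = 0 ∨ j = 5 := by decide
  have hfin : ∀ W : Submodule F V5, Module.finrank F W ≤ 5 := fun W =>
    (Submodule.finrank_le W).trans (le_of_eq (Module.finrank_fin_fun F))
  let L : Submodule F V5 := LinearMap.ker (lin5 g - 1)
  have hL : ∀ v : V5, v ∈ L ↔ suMat g *ᵥ v = v := fun v => by
    simp [L, LinearMap.mem_ker, LinearMap.sub_apply, lin5_apply, sub_eq_zero]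
  have hL0 : L = ⊥ := by
    have h := CfsgLib.MinIdxPSp.fix_count hp hg (Set.univ : Set V5) fun v _ => Set.mem_univ _
    have e : {v ∈ (Set.univ : Set V5) | g • v = v} = (L : Set V5) := by
      ext v; exact ⟨fun h => (hL v).2 h.2, fun h => ⟨Set.mem_univ _, (hL v).1 h⟩⟩
    rw [e, hcard, Set.ncard_univ, Nat.card_fun, Nat.card_fin, hF] at h
    have h2 : 4 ^ Module.finrank F L ≡ 1 [MOD 11] := h.trans (by decide)
    rcases hpow _ (hfin L) h2 with hj | hj
    · exact Submodule.finrank_eq_zero.1 hj
    · refine absurd (su_ext fun v => ?_) hg1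
      rw [suMat_one, Matrix.one_mulVec]
      exact (hL v).1 (Submodule.eq_top_of_finrank_eq (S := L) (by rw [hj, Module.finrank_fin_fun]) ▸
        Submodule.mem_top)
  have h := CfsgLib.MinIdxPSp.fix_count hp hg (W : Set V5) fun y hy => by
    have h := hW y hy
    rwa [lin5_apply] at h
  have e : {v ∈ (W : Set V5) | g • v = v} = {0} := by
    ext v
    refine ⟨fun hv => ?_, fun hv => by rw [hv]; exact ⟨W.zero_mem, Matrix.mulVec_zero _⟩⟩
    have h1 : v ∈ L := (hL v).2 hv.2
    rw [hL0, Submodule.mem_bot] at h1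
    exact h1
  rw [e, Set.ncard_singleton, hcard] at h
  rcases hpow _ (hfin W) h.symm with hj | hj
  · exact Or.inl (Submodule.finrank_eq_zero.1 hj)
  · exact Or.inr (Submodule.eq_top_of_finrank_eq (by rw [hj, Module.finrank_fin_fun]))

theorem adjoint_aeval5 {g : G 3 F 2} (hg : g ^ 11 = 1) (p : F[X]) (x y : V5) :
    Cfsg.hermForm (3 + 1 + 1) F 2 (aeval (lin5 g) p x) y =
      Cfsg.hermForm (3 + 1 + 1) F 2 x (aeval (lin5 g) (p ^ 32) y) := by
  haveI := Fintype.ofFinite F
  haveI : Fact (Nat.Prime 2) := ⟨Nat.prime_two⟩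
  haveI : CharP F 2 := CharTwo.of_one_ne_zero_of_two_eq_zero one_ne_zero (by
    have h := FiniteField.cast_card_eq_zero F
    rw [← Nat.card_eq_fintype_card, hF] at h
    exact mul_self_eq_zero.1 (show (2 : F) * 2 = 0 by rw [← h]; norm_num))
  induction p using Polynomial.induction_on generalizing x y with
  | C a =>
    have ha : (a ^ 32) ^ 2 = a := by
      have h1 := FiniteField.pow_card a
      rw [← Nat.card_eq_fintype_card, hF] at h1
      norm_num at h1
      rw [← pow_mul, show 32 * 2 = 4 * 4 * 4 by rfl, pow_mul, pow_mul, h1, h1, h1]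
    rw [← C_pow, aeval_C, aeval_C, Module.algebraMap_end_apply, Module.algebraMap_end_apply, herm_smul_left,
      herm_smul_right hF, ha]
  | add p q hp hq =>
    rw [show (p + q) ^ 32 = p ^ 32 + q ^ 32 from add_pow_char_pow (p := 2) (n := 5) p q, map_add, map_add,
      LinearMap.add_apply, LinearMap.add_apply, herm_add_left, herm_add_right hF, hp, hq]
  | monomial n a ih =>
    have hinv : g ^ 32 = g⁻¹ :=
      eq_inv_of_mul_eq_one_left (by rw [← pow_succ, show 32 + 1 = 11 * 3 by rfl, pow_mul, hg, one_pow])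
    rw [pow_succ X n, ← mul_assoc, mul_pow, map_mul, Module.End.mul_apply, ih, aeval_X, lin5_apply,
      map_mul (aeval (lin5 g)) _ (X ^ 32), map_pow (aeval (lin5 g)) X, aeval_X, ← map_pow, hinv]
    have hmove : ∀ z : V5, Cfsg.hermForm (3 + 1 + 1) F 2 (suMat g *ᵥ x) z =
        Cfsg.hermForm (3 + 1 + 1) F 2 x (suMat g⁻¹ *ᵥ z) :=
      fun z => by rw [← su_preserves g⁻¹ (suMat g *ᵥ x) z, su_inv_mulVec]
    rw [hmove]
    have hc := LinearMap.congr_fun (show aeval (lin5 g) ((C a * X ^ n) ^ 32) * lin5 g⁻¹ =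
      lin5 g⁻¹ * aeval (lin5 g) ((C a * X ^ n) ^ 32) by
        rw [← hinv, map_pow lin5, show lin5 g ^ 32 = aeval (lin5 g) (X ^ 32 : F[X]) by rw [map_pow, aeval_X],
          ← map_mul, ← map_mul, mul_comm]) y
    simp only [Module.End.mul_apply, lin5_apply] at hc ⊢
    rw [hc]

/-- The centraliser of an element of order eleven is small. -/
theorem eleven_centralizer {g : G 3 F 2} (hg : g ^ 11 = 1) (hg1 : g ≠ 1) :
    Nat.card (Subgroup.centralizer ({g} : Set (G 3 F 2))) ≤ 33 := by
  have hsub := eleven_irred hF hg hg1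
  set C := Subgroup.centralizer ({g} : Set (G 3 F 2))
  let e : C →* Module.End F V5 := lin5.comp C.subtype
  have hinj : Function.Injective e := fun a b h => Subtype.ext (su_ext fun y => by
    have h' : lin5 a.1 y = lin5 b.1 y := LinearMap.congr_fun h y
    rwa [lin5_apply, lin5_apply] at h')
  have hv : ev (k := 3) hF ≠ 0 := ev_ne_zero hF
  have hcg : ∀ c : C, e c * lin5 g = lin5 g * e c := fun c => by
    change lin5 c.1 * lin5 g = lin5 g * lin5 c.1
    rw [← map_mul, ← map_mul, Subgroup.mem_centralizer_singleton_iff.1 c.2]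
  have hpow : ∀ c : C, aeval (e c) (X ^ 33 - Polynomial.C 1 : F[X]) = 0 := fun c => by
    obtain ⟨p, hp⟩ := Six.exists_aeval hsub hv (hcg c)
    rw [map_one, map_sub, map_pow, aeval_X, map_one, sub_eq_zero, ← hp, ← map_pow, pow_succ, map_mul]
    refine LinearMap.ext fun y => sub_eq_zero.1 (uForm_nondeg hF _ _ fun x => ?_)
    change Cfsg.hermForm (3 + 1 + 1) F 2 x _ = 0
    rw [Module.End.mul_apply, Module.End.one_apply, herm_sub_right hF, ← adjoint_aeval5 hF hg, hp,
      show e c x = suMat c.1 *ᵥ x from lin5_apply _ _, show e c y = suMat c.1 *ᵥ y from lin5_apply _ _,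
      su_preserves, sub_self]
  refine (Six.card_le_degree hsub hv e hinj hcg _ (X_pow_sub_C_ne_zero (by norm_num : 0 < 33) 1) hpow).trans ?_
  rw [natDegree_X_pow_sub_C]

theorem card_SU_five : Nat.card (G 3 F 2) = 13685760 := by
  change Nat.card (Cfsg.SU 5 F 2) = _
  have h := card_SU_mul (F := F) (q := 2) hF (n := 5) (by norm_num)
  rw [card_GU hF 5] at h
  simp [Finset.prod_range_succ, Nat.even_iff] at h
  omega

/-- No subgroup has index 128 or 160. -/
theorem no_small_index (H : Subgroup (G 3 F 2)) (hidx : H.index = 128 ∨ H.index = 160) : False := by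
  haveI : Fact (Nat.Prime 11) := ⟨by norm_num⟩
  obtain ⟨M, hHM, hM11, hMcase⟩ : ∃ M, Nat.card H = 11 * M ∧ ¬ 11 ∣ M ∧ (M = 9720 ∨ M = 7776) := by
    have h := H.card_mul_index
    rw [card_SU_five hF] at h
    rcases hidx with e | e <;> rw [e] at h
    · exact ⟨9720, by omega, by norm_num, Or.inl rfl⟩
    · exact ⟨7776, by omega, by norm_num, Or.inr rfl⟩
  obtain ⟨P⟩ : Nonempty (Sylow 11 H) := inferInstance
  have hP : Nat.card (P : Subgroup H) = 11 := by
    rw [P.card_eq_multiplicity, hHM, Nat.factorization_mul (by norm_num) (by omega), Finsupp.add_apply,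
      Nat.Prime.factorization_self (by norm_num), Nat.factorization_eq_zero_of_not_dvd hM11]
    rfl
  haveI : IsCyclic (P : Subgroup H) := isCyclic_of_prime_card hP
  obtain ⟨y, hy⟩ := IsCyclic.exists_generator (α := (P : Subgroup H))
  set g : H := y.1
  have hg11 : g ^ 11 = 1 := by
    have h := pow_card_eq_one' (x := y)
    rw [hP] at h
    exact congrArg Subtype.val h
  have hg1 : g ≠ 1 := by
    intro e
    have : ∀ z : (P : Subgroup H), z = 1 := fun z => by
      obtain ⟨k, rfl⟩ := Subgroup.mem_zpowers_iff.1 (hy z)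
      rw [show y = 1 from Subtype.ext e, _root_.one_zpow]
    have h1 : Nat.card (P : Subgroup H) = 1 := Nat.card_eq_one_iff_exists.2 ⟨1, this⟩
    omega
  set C := Subgroup.centralizer ({g} : Set H)
  have hle : Nat.card C ≤ 33 := by
    refine le_trans (Nat.card_le_card_of_injective
      (fun c => (⟨((c : H) : G 3 F 2), ?_⟩ : Subgroup.centralizer ({(g : G 3 F 2)} : Set (G 3 F 2)))) ?_)
      (eleven_centralizer hF (g := (g : G 3 F 2)) (by simpa using congrArg Subtype.val hg11)
        fun e => hg1 (Subtype.ext e))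
    · rw [Subgroup.mem_centralizer_singleton_iff]
      exact congrArg Subtype.val (Subgroup.mem_centralizer_singleton_iff.1 c.2)
    · intro a b h
      exact Subtype.ext (Subtype.ext (congrArg Subtype.val h :))
  obtain ⟨e, he⟩ : 11 ∣ Nat.card C := by
    have h := orderOf_dvd_natCard (⟨g, Subgroup.mem_centralizer_singleton_iff.2 rfl⟩ : C)
    rwa [Subgroup.orderOf_mk, orderOf_eq_prime hg11 hg1] at h
  have hepos : 0 < e := by
    rcases Nat.eq_zero_or_pos e with h | h
    · rw [h, mul_zero] at he; exact absurd he Nat.card_pos.ne'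
    · exact h
  set N := Subgroup.normalizer ((P : Subgroup H) : Set H) with hNdef
  have hCg : Subgroup.centralizer ((P : Subgroup H) : Set H) = C := by
    refine le_antisymm (Subgroup.centralizer_le (by simp [g])) fun c hc => ?_
    rw [Subgroup.mem_centralizer_singleton_iff] at hc
    rw [Subgroup.mem_centralizer_iff]
    intro p hp
    obtain ⟨k, hk⟩ := Subgroup.mem_zpowers_iff.1 (hy ⟨p, hp⟩)
    rw [show p = g ^ k from (congrArg Subtype.val hk).symm.trans (by simp [g])]
    exact (Commute.zpow_left (show Commute g c from hc.symm) k).eq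
  have hCN : C ≤ N := by
    intro c hc
    rw [hNdef, Subgroup.mem_normalizer_iff]
    rw [← hCg, Subgroup.mem_centralizer_iff] at hc
    intro p
    constructor
    · intro hp; rw [← hc p hp, mul_inv_cancel_right]; exact hp
    · intro hp
      have := hc _ hp
      rw [show c * p * c⁻¹ * c = c * p by group] at this
      rwa [← mul_left_cancel this] at hp
  set j := (C.subgroupOf N).index with hjdef
  have hj : j ∣ 10 := by
    rw [hjdef, ← hCg, hNdef, ← Subgroup.normalizerMonoidHom_ker, Subgroup.index_ker]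
    refine (Subgroup.card_subgroup_dvd_card _).trans ?_
    rw [IsCyclic.card_mulAut, hP]
    decide
  have hNc : Nat.card N = Nat.card C * j := by
    rw [hjdef, ← (C.subgroupOf N).card_mul_index, Nat.card_congr (Subgroup.subgroupOfEquivOfLe hCN).toEquiv]
  have hn : Nat.card (Sylow 11 H) * Nat.card N = 11 * M := by
    rw [show Nat.card (Sylow 11 H) = N.index from P.card_eq_index_normalizer, mul_comm, Subgroup.card_mul_index, hHM]
  have hmod : Nat.card (Sylow 11 H) % 11 = 1 := by simpa [Nat.ModEq] using card_sylow_modEq_one 11 H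
  rw [hNc, he] at hn
  rw [he] at hle
  have he3 : e ≤ 3 := by omega
  have hjd := Nat.le_of_dvd (by norm_num) hj
  clear_value j
  generalize Nat.card (Sylow 11 H) = s at hn hmod
  have hj' : j = 1 ∨ j = 2 ∨ j = 5 ∨ j = 10 := by
    have hmem : j ∈ Nat.divisors 10 := Nat.mem_divisors.2 ⟨hj, by norm_num⟩
    rw [show Nat.divisors 10 = {1, 2, 5, 10} by decide] at hmem
    simpa using hmem
  rcases hMcase with rfl | rfl <;> interval_cases e <;> rcases hj' with rfl | rfl | rfl | rfl <;> omega

end CfsgLib.MinIdxU5
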