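import Cfsg.Agent.MinIdxU5.TwoFour
import Cfsg.Agent.MinIdxU5.TwoEleven

/-!
The minimal index of the special unitary groups of odd dimension at least five.
-/

set_option autoImplicit false
set_option linter.style.haveILetI false
set_option linter.unusedSectionVars false

namespace CfsgLib.MinIdxU5

open Matrix CfsgLib.Unitary CfsgLib.Forms CfsgLib.MinIdxPSU

variable {F : Type*} [Field F] [Finite F]

/-- The bound in dimension five over four elements. -/
theorem two_five_bound (hF : Nat.card F = 2 ^ 2) (H : Subgroup (Cfsg.SU (3 + 1 + 1) F 2)) (hH : H ≠ ⊤) :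
    165 ≤ H.index := by
  obtain ⟨x₀, z, hz⟩ := exists_moved hF (k := 3) (by norm_num) (fun h => by omega) (H := H) hH
  have hx₀ : Mv hF (G 3 F 2 ⧸ H) x₀ := by
    rcases Six.skew_cases hF z with e | e
    · rw [e, zE_zero, one_smul] at hz; exact absurd rfl hz
    · rw [e] at hz; exact hz
  by_contra hlt
  push Not at hlt
  have hidx := Subgroup.index_eq_card H
  rcases small_cases hF x₀ hx₀ (hidx ▸ hlt) with h | h | ⟨-, h4, h5⟩
  · exact no_small_index hF H (Or.inl (hidx.trans h))
  · exact no_small_index hF H (Or.inr (hidx.trans h))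
  · exact no_four hF h4 h5

variable {q : ℕ} (hF : Nat.card F = q ^ 2)
include hF

theorem pts_two {k : ℕ} (hodd : Odd k) :
    (Nat.card (IsoPt (k + 1 + 1) F q) : ℤ) * ((q : ℤ) ^ 2 - 1) =
      ((q : ℤ) ^ (k + 1 + 1) + 1) * ((q : ℤ) ^ (k + 1) - 1) := by
  have h := isoPt_formula hF (k + 1)
  rw [Odd.neg_one_pow (show Odd (k + 1 + 1) from (hodd.add_odd odd_one).add_odd odd_one),
    Even.neg_one_pow (hodd.add_odd odd_one)] at h
  rw [h]; ring

/-- The bound over four elements in dimension at least seven. -/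
theorem two_bound (hq : q = 2) {k : ℕ} (hk : 5 ≤ k) (hodd : Odd k) {H : Subgroup (Cfsg.SU (k + 1 + 1) F q)}
    (hH : H ≠ ⊤) : Nat.card (IsoPt (k + 1 + 1) F q) ≤ H.index := by
  subst hq
  have hp := pts_two hF hodd
  push_cast at hp
  have hB : (2 + 1) * Nat.card (IsoPt (k + 1 + 1) F 2) ≤ numLen F 2 (k + 1 + 1) 1 := by
    have h1 := numLen_one (F := F) hF (k + 1 + 1)
    rw [Odd.neg_one_pow (show Odd (k + 1 + 1) from (hodd.add_odd odd_one).add_odd odd_one)] at h1
    push_cast at h1
    have hP : (1 : ℤ) ≤ (2 : ℤ) ^ k := one_le_pow₀ (by norm_num)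
    simp only [pow_succ] at h1 hp
    norm_num at hp
    zify
    nlinarith
  obtain ⟨j, rfl⟩ : ∃ j, k = j + 1 + 1 := ⟨k - 2, by omega⟩
  by_cases h5 : j = 3
  · subst h5
    refine bound_step_target hF (by norm_num) (fun h => by omega) (two_five_bound hF) ?_ le_rfl hB hH
    norm_num at hp
    have : Nat.card (IsoPt (3 + 1 + 1 + 1 + 1) F 2) = 2709 := by
      zify; norm_num; linarith
    rw [this]; norm_num
  · refine bound_step_target hF (by omega) (fun h => by omega) (P := 2 ^ (2 * j) - 2 ^ (j + 1)) (fun K hK => ?_) ?_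
      le_rfl hB hH
    · have h := crude_bound hF (j := j) (by omega) (fun h => by omega) K hK
      push_cast at h
      have hle : 2 ^ (j + 1) ≤ 2 ^ (2 * j) := Nat.pow_le_pow_right (by norm_num) (by omega)
      zify [hle]
      linarith
    · have hle : 2 ^ (j + 1) ≤ 2 ^ (2 * j) := Nat.pow_le_pow_right (by norm_num) (by omega)
      have hP : (32 : ℤ) ≤ (2 : ℤ) ^ j := by
        have := pow_le_pow_right₀ (show (1 : ℤ) ≤ 2 by norm_num) (show 5 ≤ j by rcases hodd with ⟨r, hr⟩; omega)
        simpa using this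
      zify [hle]
      simp only [two_mul j, pow_add, pow_succ] at hp ⊢
      norm_num at hp ⊢
      nlinarith [mul_le_mul_of_nonneg_left hP (mul_nonneg (pow_nonneg (show (0 : ℤ) ≤ 2 by norm_num) j)
        (pow_nonneg (show (0 : ℤ) ≤ 2 by norm_num) j))]

/-- The bound in every odd dimension at least five. -/
theorem odd_bound {k : ℕ} (hk : 3 ≤ k) (hodd : Odd k) {H : Subgroup (Cfsg.SU (k + 1 + 1) F q)} (hH : H ≠ ⊤) :
    Nat.card (IsoPt (k + 1 + 1) F q) ≤ H.index := by
  have hq := two_le_q hF
  by_cases hq2 : q = 2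
  · by_cases h3 : k = 3
    · subst h3 hq2
      rw [card_pts_five hF]
      exact two_five_bound hF H hH
    · exact two_bound hF hq2 (by rcases hodd with ⟨r, hr⟩; omega) hodd hH
  · by_cases h3 : k = 3
    · subst h3
      exact five_bound hF (by omega) hH
    · exact su_bound hF (by omega) (by omega) hH

end CfsgLib.MinIdxU5
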