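import Cfsg.Agent.MinIdxU5.Five
import Cfsg.Agent.MinIdxPSU.SixTwoPts

/-!
A small orbit of the special unitary group of dimension five over four elements has 128, 132 or 160 points.
-/

set_option autoImplicit false
set_option linter.style.haveILetI false
set_option linter.unusedSectionVars false

namespace CfsgLib.MinIdxU5

open Matrix CfsgLib.Unitary CfsgLib.Forms AddAction CfsgLib.MinIdxPSU
open scoped Classical

variable {F : Type*} [Field F] [Finite F] (hF : Nat.card F = 2 ^ 2)
include hF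

variable (X : Type*) [MulAction (G 3 F 2) X] [Finite X]

/-- Moved by the central element. -/
def Mv (x : X) : Prop := zE (k := 3) hF (Six.one hF) • x ≠ x

theorem mv_free_iff (x : X) : Mv hF X x ↔ FreeZ (k := 3) hF X x := by
  refine ⟨fun h z hz => (Six.skew_cases hF z).resolve_right fun e => h (e ▸ hz), fun h e => ?_⟩
  exact one_ne_zero (congrArg Subtype.val (h _ e) : (1 : F) = 0)

theorem mv_sees_iff (x : X) : Sees (k := 3) hF X 1 (Quotient.mk'' (toXZ hF 3 x)) ↔ Mv hF X x := by
  refine ⟨fun h e => ?_, fun h => sees_of_free hF X ((mv_free_iff hF X x).1 h) 1⟩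
  refine one_ne_zero (psi₁_perfect hF (one_pow 2) fun s hs => (sees_mk hF X 1 _).1 h ⟨s, hs⟩ ?_)
  rw [mem_stabilizer_iff]
  rcases Six.skew_cases hF ⟨s, hs⟩ with e' | e'
  · rw [e']
    change zE (k := 3) hF 0 • x = x
    rw [zE_zero, one_smul]
  · rw [e']
    exact e

theorem nset_single (x₀ : X) (hx₀ : Mv hF X x₀) (hsmall : Nat.card X < 165) :
    (∀ O O' : NSet hF 3 X, ∃ a : Fin 3 → F, a +ᵥ O = O') ∧ Nat.card (NSet hF 3 X) = 64 := by
  haveI : Finite (LOrb hF 3 X) := by unfold LOrb; infer_instance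
  have hN : Nat.card (NSet hF 3 X) < 83 := by
    have := q_mul_nset_le (k := 3) hF X (by norm_num)
    omega
  have hall : ∀ (l : Cfsg.SU 3 F 2) (o : LOrb hF 3 X), l • o = o := by
    by_contra hcon
    push Not at hcon
    obtain ⟨l, o, hlo⟩ := hcon
    have := nset_of_moved hF hlo
    norm_num at this
    omega
  have hbot : ∀ O : NSet hF 3 X, stabilizer (Fin 3 → F) O = ⊥ := fun O =>
    stab_eq_bot hF X le_rfl O fun l => hall l _
  have horb : ∀ O : NSet hF 3 X, Nat.card (AddAction.orbit (Fin 3 → F) O) = 64 := fun O => by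
    rw [Nat.card_congr (orbitEquivQuotientStabilizer (Fin 3 → F) O), hbot O, ← AddSubgroup.index,
      AddSubgroup.index_bot, Nat.card_fun, Nat.card_fin, hF]
    norm_num
  have hsingle : ∀ O O' : NSet hF 3 X, ∃ a : Fin 3 → F, a +ᵥ O = O' := by
    intro O O'
    by_contra hne
    have hd : Disjoint (AddAction.orbit (Fin 3 → F) O) (AddAction.orbit (Fin 3 → F) O') := by
      rw [Set.disjoint_left]
      rintro y ⟨a, rfl⟩ ⟨b, hb⟩
      refine hne ⟨-b + a, ?_⟩
      change (-b + a) +ᵥ O = O'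
      rw [add_vadd, show a +ᵥ O = b +ᵥ O' from hb.symm, neg_vadd_vadd]
    have h := Set.ncard_union_eq hd (Set.toFinite _) (Set.toFinite _)
    rw [← Nat.card_coe_set_eq (AddAction.orbit _ O), ← Nat.card_coe_set_eq (AddAction.orbit _ O'), horb, horb]
      at h
    have h' := Set.ncard_le_card (α := NSet hF 3 X) (AddAction.orbit (Fin 3 → F) O ∪ AddAction.orbit (Fin 3 → F) O')
    omega
  refine ⟨hsingle, ?_⟩
  obtain ⟨O⟩ : Nonempty (NSet hF 3 X) := exists_nset (k := 3) hF X x₀ ⟨Six.one hF, hx₀⟩ (by norm_num)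
  rw [← horb O]
  exact Nat.card_congr (Equiv.subtypeUnivEquiv fun O' => show O' ∈ AddAction.orbit (Fin 3 → F) O from
    hsingle O O').symm

theorem card_moved (x₀ : X) (hx₀ : Mv hF X x₀) (hsmall : Nat.card X < 165) :
    Nat.card {x : X // Mv hF X x} = 128 := by
  have h64 := (nset_single hF X x₀ hx₀ hsmall).2
  let rep : NSet hF 3 X → X := fun O => O.1.out
  have hrep : ∀ O, (Quotient.mk'' (toXZ hF 3 (rep O)) : ZO hF 3 X) = O.1 := fun O => Quotient.out_eq' O.1
  have hout : ∀ O : NSet hF 3 X, Mv hF X (rep O) := fun O => (mv_sees_iff hF X _).1 (by rw [hrep]; exact O.2)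
  have hmv : ∀ (z : Skew hF) (x : X), Mv hF X x → Mv hF X (zE (k := 3) hF z • x) := by
    intro z x hx h
    refine hx (MulAction.injective (zE (k := 3) hF z) ?_)
    rwa [← mul_smul, ← zE_add, add_comm (Six.one hF) z, zE_add, mul_smul] at h
  let f : NSet hF 3 X × Skew hF → {x : X // Mv hF X x} := fun p =>
    ⟨zE (k := 3) hF p.2 • rep p.1, hmv p.2 _ (hout p.1)⟩
  have hf : Function.Bijective f := by
    constructor
    · rintro ⟨O, z⟩ ⟨O', z'⟩ h
      have h' : zE (k := 3) hF z • rep O = zE (k := 3) hF z' • rep O' := congrArg Subtype.val h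
      have e : O = O' := Subtype.ext (by
        rw [← hrep O, ← hrep O', ← zE_mk hF X z (rep O), h', zE_mk hF X z'])
      subst e
      refine Prod.ext rfl ?_
      have h0 : zE (k := 3) hF (-z' + z) • rep O = rep O := by
        rw [zE_add, mul_smul, h', ← mul_smul, ← zE_add, neg_add_cancel, zE_zero, one_smul]
      exact (neg_add_eq_zero.1 ((mv_free_iff hF X _).1 (hout O) _ h0)).symm
    · rintro ⟨x, hx⟩
      set O : NSet hF 3 X := ⟨_, (mv_sees_iff hF X x).2 hx⟩
      obtain ⟨z, hz⟩ := orbitRel_apply.1 (Quotient.eq''.1 (hrep O))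
      refine ⟨(O, -z), Subtype.ext ?_⟩
      change zE (k := 3) hF z • x = rep O at hz
      change zE (k := 3) hF (-z) • rep O = x
      rw [← hz, ← mul_smul, ← zE_add, neg_add_cancel, zE_zero, one_smul]
  rw [← Nat.card_congr (Equiv.ofBijective f hf), Nat.card_prod, h64, (card_fix_skew hF).2]

/-! ### Transvections by points -/

omit X in
/-- The transvection at a point. -/
noncomputable def tQ (p : IsoPt (3 + 1 + 1) F 2) : G 3 F 2 :=
  suTv (3 + 1 + 1) p.1.rep 1 p.2 (Six.one hF).2 hF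

omit X in
theorem tQ_pt {v : Fin (3 + 1 + 1) → F} (hv : v ≠ 0) (h0 : Cfsg.hermForm (3 + 1 + 1) F 2 v v = 0) :
    tQ hF (pt hF v hv h0) = suTv (3 + 1 + 1) v 1 h0 (Six.one hF).2 hF := by
  obtain ⟨c, hc⟩ := Projectivization.exists_smul_eq_mk_rep F v hv
  refine Subtype.ext (Subtype.ext ?_)
  change Cfsg.unitaryTransvection (3 + 1 + 1) 2 (Projectivization.mk F v hv).rep 1 =
    Cfsg.unitaryTransvection (3 + 1 + 1) 2 v 1
  rw [← hc, Units.smul_def, utv_smul hF, Six.cube_one hF c.ne_zero, one_mul]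

omit X in
theorem tQ_smul (g : G 3 F 2) (p : IsoPt (3 + 1 + 1) F 2) : tQ hF (g • p) = g * tQ hF p * g⁻¹ := by
  obtain ⟨v, hv, h0, rfl⟩ := exists_pt hF p
  rw [smul_pt hF, tQ_pt, tQ_pt]
  refine Subtype.ext (Subtype.ext ?_)
  exact (utv_conj g (A := suTv (3 + 1 + 1) v 1 h0 (Six.one hF).2 hF) rfl).symm

omit X in
/-- The point of the radical. -/
noncomputable def pe : IsoPt (3 + 1 + 1) F 2 := pt hF (ev (k := 3) hF) (ev_ne_zero hF) (herm_ee hF)

omit X in
theorem tQ_pe : tQ hF (pe hF) = zE (k := 3) hF (Six.one hF) := by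
  rw [pe, tQ_pt]
  refine su_ext fun y => ?_
  rw [zE_apply hF]
  exact utv_mulVec _ _ y

variable {X}

/-- The transvections fixing a point of the orbit. -/
def Fixd (x : X) : Set (IsoPt (3 + 1 + 1) F 2) := {p | tQ hF p • x = x}

theorem pe_mem_iff (x : X) : pe hF ∈ Fixd hF x ↔ ¬ Mv hF X x := by
  change tQ hF (pe hF) • x = x ↔ _
  rw [tQ_pe, Mv, not_not]

theorem mem_fixd_smul (g : G 3 F 2) (x : X) (p : IsoPt (3 + 1 + 1) F 2) :
    g • p ∈ Fixd hF (g • x) ↔ p ∈ Fixd hF x := by
  change tQ hF (g • p) • g • x = g • x ↔ _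
  rw [tQ_smul, ← mul_smul, inv_mul_cancel_right, mul_smul]
  exact ⟨fun h => MulAction.injective g h, fun h => congrArg (g • ·) h⟩

omit X in
theorem card_pts_five : Nat.card (IsoPt (3 + 1 + 1) F 2) = 165 := by
  rw [card_isoPt_five hF]; norm_num

/-- The size of a small orbit and the count of fixed points. -/
theorem small_cases [MulAction.IsPretransitive (G 3 F 2) X] (x₀ : X) (hx₀ : Mv hF X x₀)
    (hsmall : Nat.card X < 165) :
    Nat.card X = 128 ∨ Nat.card X = 160 ∨
      (Nat.card X = 132 ∧ Nat.card {x : X // ¬ Mv hF X x} = 4 ∧ ∀ x : X, Nat.card (Fixd hF x) = 5) := by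
  haveI := Fintype.ofFinite X
  haveI : Finite (IsoPt (3 + 1 + 1) F 2) := by unfold IsoPt; infer_instance
  haveI := Fintype.ofFinite (IsoPt (3 + 1 + 1) F 2)
  haveI := isPretransitive (n := 3 + 1 + 1) hF
  set f := Nat.card {x : X // ¬ Mv hF X x}
  have hX : Nat.card X = 128 + f := by
    rw [← card_moved hF X x₀ hx₀ hsmall, ← Nat.card_sum, Nat.card_congr (Equiv.sumCompl (fun x => Mv hF X x))]
  have hconst : ∀ x : X, Nat.card (Fixd hF x) = Nat.card (Fixd hF x₀) := fun x => by
    obtain ⟨g, rfl⟩ := MulAction.exists_smul_eq (G 3 F 2) x₀ x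
    exact (Nat.card_congr (Equiv.subtypeEquiv (MulAction.toPerm g) fun p =>
      (mem_fixd_smul hF g x₀ p).symm)).symm
  have hcount : 165 * f = Nat.card X * Nat.card (Fixd hF x₀) := by
    have e1 : Nat.card (Σ p : IsoPt (3 + 1 + 1) F 2, {x : X // p ∈ Fixd hF x}) = 165 * f := by
      rw [Nat.card_sigma, Finset.sum_congr rfl (g := fun _ => f) fun p _ => ?_, Finset.sum_const, smul_eq_mul,
        Finset.card_univ, ← Nat.card_eq_fintype_card, card_pts_five hF]
      obtain ⟨g, rfl⟩ := MulAction.exists_smul_eq (G 3 F 2) (pe hF) p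
      refine (Nat.card_congr (Equiv.subtypeEquiv (MulAction.toPerm g) fun x => ?_)).symm
      change _ ↔ g • pe hF ∈ Fixd hF (g • x)
      rw [mem_fixd_smul hF, pe_mem_iff hF]
    have e2 : Nat.card (Σ x : X, {p : IsoPt (3 + 1 + 1) F 2 // p ∈ Fixd hF x}) =
        Nat.card X * Nat.card (Fixd hF x₀) := by
      rw [Nat.card_sigma, Finset.sum_congr rfl (g := fun _ => Nat.card (Fixd hF x₀)) fun x _ => hconst x,
        Finset.sum_const, smul_eq_mul, Finset.card_univ, ← Nat.card_eq_fintype_card]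
    rw [← e1, ← e2]
    exact Nat.card_congr
      { toFun := fun a => ⟨a.2.1, a.1, a.2.2⟩
        invFun := fun a => ⟨a.2.1, a.1, a.2.2⟩
        left_inv := fun a => rfl
        right_inv := fun a => rfl }
  rw [hX] at hcount hsmall
  rw [hX]
  simp only [hconst]
  have hf : f < 37 := by omega
  clear_value f
  interval_cases f <;> first
    | exact Or.inl rfl
    | exact Or.inr (Or.inl rfl)
    | exact Or.inr (Or.inr ⟨rfl, rfl, fun _ => by omega⟩)
    | (exfalso; omega)

end CfsgLib.MinIdxU5
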