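import Cfsg.Agent.MinIdxU5.TwoBase

/-!
Four fixed points with five transvections each are impossible.
-/

set_option autoImplicit false
set_option linter.style.haveILetI false
set_option linter.unusedSectionVars false

namespace CfsgLib.MinIdxU5

open Matrix CfsgLib.Unitary CfsgLib.Forms CfsgLib.MinIdxPSU
open scoped Classical

variable {F : Type*} [Field F] [Finite F] (hF : Nat.card F = 2 ^ 2)
include hF

variable {X : Type*} [MulAction (G 3 F 2) X] [Finite X]

/-- A central element fixes what its generator fixes. -/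
theorem zE_fix {y : X} (hy : ¬ Mv hF X y) (z : Skew hF) : zE (k := 3) hF z • y = y := by
  rcases Six.skew_cases hF z with e | e <;> rw [e]
  · rw [zE_zero, one_smul]
  · exact not_not.1 hy

theorem not_mv_smul {g : G 3 F 2} (hg : CZ hF g) {y : X} (hy : ¬ Mv hF X y) : ¬ Mv hF X (g • y) := fun h =>
  h (by rw [← mul_smul, ← hg, mul_smul, zE_fix hF hy])

theorem herm_vE_ev (a : Fin 3 → F) (v : Fin (3 + 1 + 1) → F) :
    Cfsg.hermForm (3 + 1 + 1) F 2 (suMat (vE (k := 3) hF a) *ᵥ v) (ev hF) =
      Cfsg.hermForm (3 + 1 + 1) F 2 v (ev hF) := by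
  rw [vE, rad_apply hF]
  simp only [herm_add_left, herm_smul_left, herm_emb_ev hF, herm_ee hF, mul_zero, add_zero]

theorem proj_vE (a : Fin 3 → F) (v : Fin (3 + 1 + 1) → F) :
    proj (suMat (vE (k := 3) hF a) *ᵥ v) = proj v + Cfsg.hermForm (3 + 1 + 1) F 2 v (ev hF) • a := by
  rw [vE, rad_apply hF]
  simp only [map_add, map_smul, proj_emb, proj_ev hF, smul_zero, add_zero]

theorem vE_fixes_ev (a : Fin 3 → F) : suMat (vE (k := 3) hF a) *ᵥ ev hF = ev hF := by
  rw [vE, rad_apply hF, herm_ee hF, herm_ev_emb hF]; simp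

/-- The radical fixes the four fixed points. -/
theorem vE_fix (h4 : Nat.card {x : X // ¬ Mv hF X x} = 4) (a : Fin 3 → F) {y : X} (hy : ¬ Mv hF X y) :
    vE (k := 3) hF a • y = y := by
  set Y0 := {x : X // ¬ Mv hF X x}
  let π : (Fin 3 → F) → Equiv.Perm Y0 := fun a => (MulAction.toPerm (vE (k := 3) hF a)).subtypePerm fun x => by
    constructor
    · intro hx h
      refine hx fun h' => h (MulAction.injective (vE (k := 3) hF a) ?_)
      show vE (k := 3) hF a • zE (k := 3) hF (Six.one hF) • x = vE (k := 3) hF a • x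
      rw [← mul_smul, cz_vE hF a (Six.one hF), mul_smul]
      exact h'
    · intro hx
      exact not_mv_smul hF (cz_vE hF a) hx
  have hπadd : ∀ a b, π (a + b) = π a * π b := by
    intro a b
    refine Equiv.ext fun x => Subtype.ext ?_
    change vE (k := 3) hF (a + b) • x.1 = vE (k := 3) hF a • vE (k := 3) hF b • x.1
    obtain ⟨z, hz⟩ := vE_mul hF a b
    rw [← mul_smul, hz, mul_smul]
    exact (zE_fix hF (not_mv_smul hF (cz_vE hF (a + b)) x.2) z).symm
  let φ : (Fin 3 → F) →+ Additive (Equiv.Perm Y0) := AddMonoidHom.mk' (fun a => Additive.ofMul (π a))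
    fun a b => congrArg Additive.ofMul (hπadd a b)
  have hidx : φ.ker.index ∣ 8 := by
    have h1 : φ.ker.index ∣ 64 := by
      have h := φ.ker.index_dvd_card
      rwa [Nat.card_fun, Nat.card_fin, hF] at h
    have h2 : φ.ker.index ∣ 24 := by
      rw [AddSubgroup.index_ker]
      refine (AddSubgroup.card_addSubgroup_dvd_card _).trans ?_
      rw [Nat.card_congr Additive.toMul, Nat.card_perm, h4]
      exact dvd_rfl
    exact Nat.dvd_gcd h1 h2
  have hK : 2 ^ 3 ≤ Nat.card φ.ker := by
    have h := φ.ker.card_mul_index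
    rw [Nat.card_fun, Nat.card_fin, hF] at h
    have := Nat.le_of_dvd (by norm_num) hidx
    nlinarith
  have hker : ∀ a, a ∈ φ.ker ↔ ∀ y : X, ¬ Mv hF X y → vE (k := 3) hF a • y = y := fun a => by
    rw [AddMonoidHom.mem_ker]
    constructor
    · intro h y hy
      exact congrArg Subtype.val (Equiv.ext_iff.1 (congrArg Additive.toMul h) ⟨y, hy⟩)
    · intro h
      exact congrArg Additive.ofMul (Equiv.ext fun x => Subtype.ext (h x.1 x.2) : π a = 1)
  have hinv : ∀ (l : Cfsg.SU 3 F 2) (a : Fin 3 → F), a ∈ φ.ker → suMat l *ᵥ a ∈ φ.ker := by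
    intro l a ha
    rw [hker] at ha ⊢
    intro y hy
    obtain ⟨z, hz⟩ := levi_vE hF l a
    have hy' : ¬ Mv hF X (levi (k := 3) l⁻¹ • y) := not_mv_smul hF (cz_levi hF _) hy
    have h1 := ha _ hy'
    have h2 : (levi (k := 3) l * vE (k := 3) hF a * (levi l)⁻¹) • y = y := by
      rw [← map_inv, mul_smul, mul_smul, h1, ← mul_smul, ← map_mul, mul_inv_cancel, map_one, one_smul]
    rw [hz, mul_smul] at h2
    have h3 := zE_fix hF (not_mv_smul hF (cz_vE hF (suMat l *ᵥ a)) hy) z
    rw [h3] at h2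
    exact h2
  obtain ⟨v, hv, hv0, hvv⟩ := exists_iso_mem hF φ.ker hK
  have hiso : ∀ u : Fin 3 → F, Cfsg.hermForm 3 F 2 u u = 0 → u ∈ φ.ker := fun u hu => by
    by_cases hu0 : u = 0
    · rw [hu0]; exact φ.ker.zero_mem
    · obtain ⟨l, rfl⟩ := exists_SU_vec hF (n := 3) le_rfl hv0 hu0 hvv hu
      exact hinv l v hv
  have htop : a ∈ φ.ker := by
    have ha : a ∈ Submodule.span F {x : Fin 3 → F | Cfsg.hermForm 3 F 2 x x = 0} := by
      rw [iso_span_top hF (by norm_num)]; trivial
    refine Submodule.span_induction (p := fun x _ => ∀ c : F, c • x ∈ φ.ker) (fun x hx c => hiso _ ?_)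
      (fun c => by rw [smul_zero]; exact φ.ker.zero_mem)
      (fun a b _ _ ha hb c => by rw [smul_add]; exact φ.ker.add_mem (ha c) (hb c))
      (fun d x _ hx c => by rw [smul_smul]; exact hx _) ha 1 |> fun h => by rwa [one_smul] at h
    rw [herm_smul_left, herm_smul_right hF, show Cfsg.hermForm 3 F 2 x x = 0 from hx, mul_zero, mul_zero]
  exact (hker a).1 htop y hy

/-- An isotropic point of the complement below a transvection of a fixed point. -/
def Below (y : X) (P : IsoPt 3 F 2) : Prop :=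
  ∃ (v : Fin (3 + 1 + 1) → F) (hv : v ≠ 0) (h0 : Cfsg.hermForm (3 + 1 + 1) F 2 v v = 0),
    pt hF v hv h0 ∈ Fixd hF y ∧ Cfsg.hermForm (3 + 1 + 1) F 2 v (ev hF) = 0 ∧
      ∃ (hw : proj (k := 3) v ≠ 0) (hw0 : Cfsg.hermForm 3 F 2 (proj v) (proj v) = 0), pt hF (proj v) hw hw0 = P

theorem no_four [MulAction.IsPretransitive (G 3 F 2) X] (h4 : Nat.card {x : X // ¬ Mv hF X x} = 4)
    (h5 : ∀ x : X, Nat.card (Fixd hF x) = 5) : False := by
  haveI : Finite (IsoPt (3 + 1 + 1) F 2) := by unfold IsoPt; infer_instance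
  obtain ⟨⟨y₀, hy₀⟩⟩ : Nonempty {x : X // ¬ Mv hF X x} :=
    (Nat.card_pos_iff.1 (by rw [h4]; norm_num)).1
  -- the transvections of a fixed point are permuted by the radical
  have hmove : ∀ y : X, ¬ Mv hF X y → ∀ r ∈ Fixd hF y, ∀ a, vE (k := 3) hF a • r ∈ Fixd hF y := by
    intro y hy r hr a
    have h := (mem_fixd_smul hF (vE (k := 3) hF a) y r).2 hr
    rwa [vE_fix hF h4 a hy] at h
  have hperp : ∀ y : X, ¬ Mv hF X y → ∀ (v : Fin (3 + 1 + 1) → F) (hv : v ≠ 0)
      (h0 : Cfsg.hermForm (3 + 1 + 1) F 2 v v = 0), pt hF v hv h0 ∈ Fixd hF y →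
      Cfsg.hermForm (3 + 1 + 1) F 2 v (ev hF) = 0 := by
    intro y hy v hv h0 hmem
    by_contra hm
    have hinj : Function.Injective fun a : Fin 3 → F =>
        (⟨vE (k := 3) hF a • pt hF v hv h0, hmove y hy _ hmem a⟩ : Fixd hF y) := by
      intro a b h
      have h' : vE (k := 3) hF a • pt hF v hv h0 = vE (k := 3) hF b • pt hF v hv h0 := congrArg Subtype.val h
      rw [smul_pt, smul_pt, pt_eq_iff] at h'
      obtain ⟨c, hc⟩ := h'
      have hc1 : c = 1 := by
        have := congrArg (fun u => Cfsg.hermForm (3 + 1 + 1) F 2 u (ev hF)) hc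
        simp only [herm_smul_left, herm_vE_ev hF] at this
        exact mul_right_cancel₀ hm (this.trans (one_mul _).symm)
      rw [hc1, one_smul] at hc
      have hp := congrArg proj hc
      rw [proj_vE hF, proj_vE hF] at hp
      exact (smul_right_injective _ hm (add_left_cancel hp)).symm
    have h := Nat.card_le_card_of_injective _ hinj
    rw [h5, Nat.card_fun, Nat.card_fin, hF] at h
    norm_num at h
  -- at most one point below
  have huniq : ∀ y : X, ¬ Mv hF X y → ∀ P Q : IsoPt 3 F 2, Below hF y P → Below hF y Q → P = Q := by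
    intro y hy P Q hP hQ
    by_contra hne
    let R : Bool → IsoPt 3 F 2 := fun b => bif b then P else Q
    have hR : ∀ b, Below hF y (R b) := fun b => by cases b <;> assumption
    choose v hv h0 hmem hve hw hw0 hpt using hR
    have hu : ∀ b, ∃ u : Fin 3 → F, Cfsg.hermForm 3 F 2 (proj (v b)) u ≠ 0 := fun b => by
      by_contra hc
      push Not at hc
      refine hw b (uForm_nondeg hF 3 _ fun u => ?_)
      change Cfsg.hermForm 3 F 2 u (proj (v b)) = 0
      rw [herm_swap hF (proj (v b)) u, hc u, zero_pow two_ne_zero]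
    choose u hu using hu
    let f : Option (Bool × F) → Fixd hF y := fun o => o.elim ⟨pe hF, (pe_mem_iff hF y).2 hy⟩
      fun p => ⟨vE (k := 3) hF (p.2 • u p.1) • pt hF (v p.1) (hv p.1) (h0 p.1), hmove y hy _ (hmem p.1) _⟩
    have hproj : ∀ b a, proj (suMat (vE (k := 3) hF a) *ᵥ v b) = proj (v b) := fun b a => by
      rw [proj_vE hF, hve b, zero_smul, add_zero]
    have hnp : ∀ p : Bool × F, f (some p) ≠ f none := by
      intro p h
      have h' : vE (k := 3) hF (p.2 • u p.1) • pt hF (v p.1) (hv p.1) (h0 p.1) = pe hF := congrArg Subtype.val h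
      rw [pe, smul_pt, pt_eq_iff] at h'
      obtain ⟨c, hc⟩ := h'
      refine hw p.1 ?_
      rw [← hproj p.1 (p.2 • u p.1), ← hc, map_smul, proj_ev hF, smul_zero]
    have hf : Function.Injective f := by
      rintro (_ | ⟨b, t⟩) (_ | ⟨b', t'⟩) h
      · rfl
      · exact absurd h.symm (hnp _)
      · exact absurd h (hnp _)
      have h' : vE (k := 3) hF (t • u b) • pt hF (v b) (hv b) (h0 b) =
          vE (k := 3) hF (t' • u b') • pt hF (v b') (hv b') (h0 b') := congrArg Subtype.val h
      rw [smul_pt, smul_pt, pt_eq_iff] at h'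
      obtain ⟨c, hc⟩ := h'
      have hp := congrArg proj hc
      rw [map_smul, hproj, hproj] at hp
      have hb : b = b' := by
        have hRR : R b = R b' := by
          rw [← hpt b, ← hpt b', pt_eq_iff]
          exact ⟨c, hp⟩
        cases b <;> cases b' <;> first | rfl | exact absurd hRR hne | exact absurd hRR.symm hne
      subst hb
      have hc1 : c = 1 := smul_left_injective F (hw b) (hp.trans (one_smul F _).symm)
      rw [hc1, one_smul] at hc
      have hf' := congrArg (fun x => Cfsg.hermForm (3 + 1 + 1) F 2 x (fv (k := 3) hF)) hc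
      simp only [vE, rad_apply hF, hve b, herm_add_left, herm_smul_left, herm_ef hF, mul_zero, zero_sub,
        zero_mul, add_zero, mul_one, herm_emb_right hF, herm_smul_right hF] at hf'
      have ht : (t' ^ 2) * Cfsg.hermForm 3 F 2 (proj (v b)) (u b) = t ^ 2 * Cfsg.hermForm 3 F 2 (proj (v b)) (u b) :=
        neg_injective (add_left_cancel hf')
      have ht2 : frobQ hF t' = frobQ hF t := by
        rw [frobQ_apply, frobQ_apply]
        exact mul_right_cancel₀ (hu b) ht
      rw [(frobQ hF).injective ht2]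
    have h := Nat.card_le_card_of_injective f hf
    rw [h5, Finite.card_option, Nat.card_prod, Nat.card_eq_fintype_card (α := Bool), Fintype.card_bool, hF] at h
    norm_num at h
  -- every point occurs
  obtain ⟨v, hv, h0, hmem, hne⟩ : ∃ (v : Fin (3 + 1 + 1) → F) (hv : v ≠ 0)
      (h0 : Cfsg.hermForm (3 + 1 + 1) F 2 v v = 0), pt hF v hv h0 ∈ Fixd hF y₀ ∧ pt hF v hv h0 ≠ pe hF := by
    haveI := Fintype.ofFinite (Fixd hF y₀)
    obtain ⟨⟨r, hr⟩, hrne⟩ := Fintype.exists_ne_of_one_lt_card
      (show 1 < Fintype.card (Fixd hF y₀) by rw [Fintype.card_eq_nat_card, h5]; norm_num)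
      (⟨pe hF, (pe_mem_iff hF y₀).2 hy₀⟩ : Fixd hF y₀)
    obtain ⟨v, hv, h0, rfl⟩ := exists_pt hF r
    exact ⟨v, hv, h0, hr, fun e => hrne (Subtype.ext e)⟩
  have hve := hperp y₀ hy₀ v hv h0 hmem
  have hd : v = emb (proj v) + Cfsg.hermForm (3 + 1 + 1) F 2 v (fv hF) • ev (k := 3) hF := by
    conv_lhs => rw [decompose hF v, hve, zero_smul, add_zero]
  have hw : proj (k := 3) v ≠ 0 := fun e => hne (by
    rw [pe, pt_eq_iff]
    rw [e, map_zero, zero_add] at hd
    exact ⟨_, hd.symm⟩)
  have hw0 : Cfsg.hermForm 3 F 2 (proj v) (proj (k := 3) v) = 0 := by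
    have h := h0
    rw [hd] at h
    simpa only [herm_add_left, herm_add_right hF, herm_smul_left, herm_smul_right hF, herm_ee hF,
      herm_emb_ev hF, herm_ev_emb hF, herm_emb hF, mul_zero, add_zero] using h
  haveI := isPretransitive (n := 3) hF
  have hall : ∀ P : IsoPt 3 F 2, ∃ y : {x : X // ¬ Mv hF X x}, Below hF y.1 P := by
    intro P
    obtain ⟨l, rfl⟩ := MulAction.exists_smul_eq (Cfsg.SU 3 F 2) (pt hF (proj v) hw hw0) P
    refine ⟨⟨levi (k := 3) l • y₀, not_mv_smul hF (cz_levi hF l) hy₀⟩, ?_⟩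
    have hpr : proj (suMat (levi (k := 3) l) *ᵥ v) = suMat l *ᵥ proj v := by
      rw [levi_apply]
      rfl
    refine ⟨suMat (levi (k := 3) l) *ᵥ v, su_mulVec_ne_zero _ hv, by rw [su_preserves, h0], ?_, ?_,
      by rw [hpr]; exact su_mulVec_ne_zero l hw, by rw [hpr, su_preserves, hw0], ?_⟩
    · have h := (mem_fixd_smul hF (levi (k := 3) l) y₀ _).2 hmem
      rwa [smul_pt] at h
    · conv_lhs => rw [← levi_fix l (proj_ev (k := 3) hF), su_preserves]
      exact hve
    · rw [smul_pt, pt_eq_iff]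
      exact ⟨1, by rw [one_smul, hpr]⟩
  choose f hf using hall
  have hfinj : Function.Injective f := fun P Q h => huniq _ (f Q).2 P Q (h ▸ hf P) (hf Q)
  have h := Nat.card_le_card_of_injective f hfinj
  rw [h4] at h
  have h9 : Nat.card (IsoPt (1 + 1 + 1) F 2) = 9 := MinIdxU3.card_isoPt_three hF
  change Nat.card (IsoPt (1 + 1 + 1) F 2) ≤ 4 at h
  omega

end CfsgLib.MinIdxU5
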