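import Cfsg.Agent.MinIdxU3.Small
import Cfsg.Agent.MinIdxU3.Line
import Cfsg.Agent.MinIdxPSU.Dichotomy
import Mathlib.FieldTheory.ChevalleyWarning

/-!
Groups of vectors in a three-dimensional unitary space: isotropic members, transitivity on levels and the shape of
sets of isotropic vectors with vanishing traces.
-/

set_option autoImplicit false
set_option linter.style.haveILetI false
set_option linter.unusedSectionVars false

namespace CfsgLib.MinIdxU5

open Matrix CfsgLib.Unitary CfsgLib.Forms CfsgLib.MinIdxPSU CfsgLib.MinIdxU3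
open scoped Classical

variable {F : Type*} [Field F] [Finite F] {q : ℕ} (hF : Nat.card F = q ^ 2)

local notation "hh" => Cfsg.hermForm (1 + 1 + 1) F q
local notation "V3" => Fin (1 + 1 + 1) → F
local notation "G3" => G 1 F q

include hF

/-- A large group of vectors contains an isotropic one. -/
theorem exists_iso_mem (W : AddSubgroup V3) (hW : q ^ 3 ≤ Nat.card W) :
    ∃ v ∈ W, v ≠ 0 ∧ hh v v = 0 := by
  obtain ⟨p, hp⟩ := CharP.exists F
  haveI : Fact p.Prime := ⟨CharP.char_is_prime F p⟩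
  haveI := Fintype.ofFinite F
  letI : Algebra (ZMod p) F := ZMod.algebra F p
  obtain ⟨e, he, hqe⟩ := exists_q_pow (p := p) hF
  let W' : Submodule (ZMod p) V3 := AddSubgroup.toZModSubmodule p W
  let Fs : Submodule (ZMod p) F := AddSubgroup.toZModSubmodule p (Fix hF)
  have hp1 : 1 < p := (Fact.out : p.Prime).one_lt
  have hdF : Module.finrank (ZMod p) Fs = e := by
    have h := Module.natCard_eq_pow_finrank (K := ZMod p) (V := Fs)
    rw [Nat.card_zmod] at h
    have h2 : Nat.card Fs = p ^ e := (card_fix_skew hF).1.trans hqe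
    exact Nat.pow_right_injective hp1 (h.symm.trans h2)
  have hdW : 3 * e ≤ Module.finrank (ZMod p) W' := by
    have h := Module.natCard_eq_pow_finrank (K := ZMod p) (V := W')
    rw [Nat.card_zmod] at h
    have h2 : p ^ (3 * e) ≤ p ^ Module.finrank (ZMod p) W' := by
      rw [← h, mul_comm, pow_mul, ← hqe]
      exact hW
    exact (Nat.pow_le_pow_iff_right hp1).1 h2
  let b := Module.finBasisOfFinrankEq (ZMod p) Fs hdF
  let v := Module.finBasis (ZMod p) W'
  obtain ⟨π, hπ⟩ := LinearMap.exists_leftInverse_of_injective Fs.subtype Fs.ker_subtype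
  let ψ : F →ₗ[ZMod p] (Fin e → ZMod p) := b.equivFun.toLinearMap.comp π
  have hψ : ∀ x : F, x ^ q = x → ψ x = 0 → x = 0 := fun x hx h => by
    have h1 : π x = (⟨x, hx⟩ : Fs) := LinearMap.congr_fun hπ ⟨x, hx⟩
    have h2 : b.equivFun (π x) = 0 := h
    rw [h1, LinearEquiv.map_eq_zero_iff] at h2
    exact congrArg Subtype.val h2
  set n := Module.finrank (ZMod p) W'
  let f : Fin e → MvPolynomial (Fin n) (ZMod p) := fun j => ∑ i : Fin n, ∑ l : Fin n,
    MvPolynomial.C (ψ (hh (v i : V3) (v l : V3)) j) * MvPolynomial.X i * MvPolynomial.X l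
  have hdeg : ∀ j, (f j).totalDegree ≤ 2 := fun j => by
    refine (MvPolynomial.totalDegree_finset_sum _ _).trans (Finset.sup_le fun i _ => ?_)
    refine (MvPolynomial.totalDegree_finset_sum _ _).trans (Finset.sup_le fun l _ => ?_)
    refine (MvPolynomial.totalDegree_mul _ _).trans ?_
    rw [MvPolynomial.totalDegree_X]
    refine Nat.add_le_add_right ((MvPolynomial.totalDegree_mul _ _).trans ?_) 1
    rw [MvPolynomial.totalDegree_X, MvPolynomial.totalDegree_C]
  have hsum : ∑ j, (f j).totalDegree < Fintype.card (Fin n) := by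
    refine lt_of_le_of_lt (Finset.sum_le_sum fun j _ => hdeg j) ?_
    rw [Finset.sum_const, Finset.card_univ, Fintype.card_fin, Fintype.card_fin, smul_eq_mul]
    omega
  have hdvd := char_dvd_card_solutions_of_fintype_sum_lt p hsum
  obtain ⟨⟨x, hx⟩, hx0⟩ : ∃ x : {x : Fin n → ZMod p // ∀ j, MvPolynomial.eval x (f j) = 0},
      x.1 ≠ 0 := by
    by_contra hcon
    push Not at hcon
    haveI : Subsingleton {x : Fin n → ZMod p // ∀ j, MvPolynomial.eval x (f j) = 0} :=
      ⟨fun a b => Subtype.ext (by rw [hcon a, hcon b])⟩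
    haveI : Nonempty {x : Fin n → ZMod p // ∀ j, MvPolynomial.eval x (f j) = 0} := ⟨⟨0, fun j => by simp [f]⟩⟩
    haveI := uniqueOfSubsingleton (Classical.arbitrary {x : Fin n → ZMod p // ∀ j, MvPolynomial.eval x (f j) = 0})
    rw [Fintype.card_eq_nat_card] at hdvd
    rw [Nat.card_unique, Nat.dvd_one] at hdvd
    omega
  set u : W' := ∑ i, x i • v i
  have hu0 : (u : V3) ≠ 0 := fun h => hx0 (funext fun i =>
    Fintype.linearIndependent_iff.1 v.linearIndependent x (Subtype.ext h) i)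
  refine ⟨u, u.2, hu0, hψ _ (herm_self_fixed hF _) (funext fun j => ?_)⟩
  refine Eq.trans ?_ (hx j)
  have hu : (u : V3) = ∑ i, x i • (v i : V3) := by simp [u]
  have hexp : hh (u : V3) (u : V3) = ∑ i, ∑ l, (x i * x l) • hh (v i : V3) (v l : V3) := by
    change pairV hF (1 + 1 + 1) (u : V3) (u : V3) = _
    rw [hu]
    simp only [map_sum, AddMonoidHom.finsetSum_apply]
    rw [Finset.sum_comm]
    refine Finset.sum_congr rfl fun i _ => Finset.sum_congr rfl fun l _ => ?_
    rw [ZMod.map_smul, show pairV hF (1 + 1 + 1) (x i • (v i : V3)) (v l : V3) =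
      (pairV hF (1 + 1 + 1)).flip (v l : V3) (x i • (v i : V3)) from rfl, ZMod.map_smul, smul_smul, mul_comm]
    rfl
  rw [hexp]
  simp only [f, map_sum, map_smul, Finset.sum_apply, Pi.smul_apply, MvPolynomial.eval_sum, map_mul,
    MvPolynomial.eval_C, MvPolynomial.eval_X, smul_eq_mul]
  exact Finset.sum_congr rfl fun i _ => Finset.sum_congr rfl fun l _ => by ring

/-- The special group is transitive on the vectors of one length. -/
theorem exists_SU_sphere {n : ℕ} (hn : 2 ≤ n) {u v : Fin n → F} {μ : F} (hμ : μ ≠ 0)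
    (hu : Cfsg.hermForm n F q u u = μ) (hv : Cfsg.hermForm n F q v v = μ) :
    ∃ s : Cfsg.SU n F q, suMat s *ᵥ u = v := by
  have hq := two_le_q hF
  have hu' : u ≠ 0 := fun e => hμ (by rw [← hu, e]; simp [Cfsg.hermForm])
  have hv' : v ≠ 0 := fun e => hμ (by rw [← hv, e]; simp [Cfsg.hermForm])
  obtain ⟨g, hg⟩ := exists_GU_family hF (fun _ : Fin 1 => u) (fun _ => v)
    (linearIndependent_unique_iff.mpr hu') (linearIndependent_unique_iff.mpr hv') (fun _ _ => by rw [hu, hv])
  obtain ⟨z, hz, hzz⟩ := exists_aniso hF (m := 1) (n := n) (by omega) ![v] (perpK q ![v]) (fun x hx => hx) (by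
    refine Submodule.eq_top_iff'.2 fun x => Submodule.mem_sup.2
      ⟨x - (Cfsg.hermForm n F q x v / μ) • v, fun i => ?_, (Cfsg.hermForm n F q x v / μ) • v, ?_, by abel⟩
    · fin_cases i
      simp [herm_sub_left hF, herm_smul_left, hv, hμ]
    · exact Submodule.smul_mem _ _ (Submodule.subset_span ⟨0, rfl⟩))
  have hd := det_GU hF g.2
  set h := Cfsg.hermForm n F q z z with hzdef
  have hhq : h ^ q = h := herm_self_fixed hF z
  set lam : F := (g.1 : Matrix (Fin n) (Fin n) F).det⁻¹ with hlam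
  have hlam1 : lam * lam ^ q = 1 := by
    have h1 : (g.1 : Matrix (Fin n) (Fin n) F).det ^ (q + 1) = 1 := by
      have := congrArg Units.val hd
      simpa using this
    rw [← pow_succ', hlam, inv_pow, h1, inv_one]
  set a : F := (lam - 1) / h with ha
  have haq : a ^ q = (lam ^ q - 1) / h := by
    rw [ha, div_pow, hhq, ← frobQ_apply hF (lam - 1), map_sub, map_one, frobQ_apply]
  have hdet : (Cfsg.unitaryTransvection n q z a * (g.1 : Matrix (Fin n) (Fin n) F)).det = 1 := by
    have hne : (g.1 : Matrix (Fin n) (Fin n) F).det ≠ 0 := fun e => by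
      rw [hlam, e, _root_.inv_zero, zero_mul] at hlam1
      exact zero_ne_one hlam1
    rw [Matrix.det_mul, det_utv, ← hzdef, ha, div_mul_cancel₀ _ hzz, add_sub_cancel, hlam, inv_mul_cancel₀ hne]
  refine ⟨⟨⟨_, hdet⟩, fun x y => ?_⟩, ?_⟩
  · change Cfsg.hermForm n F q ((Cfsg.unitaryTransvection n q z a * (g.1 : Matrix (Fin n) (Fin n) F)) *ᵥ x)
      ((Cfsg.unitaryTransvection n q z a * (g.1 : Matrix (Fin n) (Fin n) F)) *ᵥ y) = _
    rw [← mulVec_mulVec, ← mulVec_mulVec, ← mem_GU_iff.mp g.2 x y]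
    generalize (g.1 : Matrix (Fin n) (Fin n) F) *ᵥ x = x'
    generalize (g.1 : Matrix (Fin n) (Fin n) F) *ᵥ y = y'
    rw [utv_mulVec, utv_mulVec]
    simp only [herm_add_left, herm_add_right hF, herm_smul_left, herm_smul_right hF, ← hzdef, mul_pow,
      ← herm_swap hF, haq]
    rw [ha]
    field_simp
    linear_combination (Cfsg.hermForm n F q x' z * Cfsg.hermForm n F q z y') * hlam1
  · change (Cfsg.unitaryTransvection n q z a * (g.1 : Matrix (Fin n) (Fin n) F)) *ᵥ u = v
    rw [← mulVec_mulVec, hg 0, utv_mulVec]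
    have h0 : Cfsg.hermForm n F q v z = 0 := by
      rw [herm_swap hF z v, show Cfsg.hermForm n F q z v = 0 from hz 0, zero_pow (by omega)]
    rw [h0, mul_zero, zero_smul, add_zero]

/-- The vectors of one length form one orbit. -/
theorem exists_level {u v : V3} (hu : u ≠ 0) (hv : v ≠ 0) (h : hh u u = hh v v) :
    ∃ s : G3, suMat s *ᵥ u = v := by
  by_cases h0 : hh u u = 0
  · exact exists_SU_vec hF (by norm_num) hu hv h0 (h ▸ h0)
  · exact exists_SU_sphere hF (by norm_num) h0 rfl h.symm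

/-- Isotropic vectors orthogonal to one are its multiples. -/
theorem iso_line {v u : V3} (hv : v ≠ 0) (hvv : hh v v = 0) (hu : hh u u = 0) (huv : hh u v = 0) :
    ∃ a : F, u = a • v := by
  obtain ⟨g, hg⟩ := exists_SU_vec hF (by norm_num) (ev_ne_zero (k := 1) hF) hv (herm_ee hF) hvv
  have h1 : hh (suMat g⁻¹ *ᵥ u) (suMat g⁻¹ *ᵥ u) = 0 := by rw [su_preserves, hu]
  have h2 : hh (suMat g⁻¹ *ᵥ u) (ev hF) = 0 := by
    rw [← su_preserves g (suMat g⁻¹ *ᵥ u) (ev hF), hg]
    have h := su_inv_mulVec g⁻¹ u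
    rw [inv_inv] at h
    rw [h, huv]
  refine ⟨hh (suMat g⁻¹ *ᵥ u) (fv hF), ?_⟩
  have h := su_inv_mulVec g⁻¹ u
  rw [inv_inv] at h
  conv_lhs => rw [← h, iso_perp_ev hF h1 h2, Matrix.mulVec_smul, hg]

/-- An element of the radical moving `fv` to an isotropic vector of inner product one with `ev`. -/
theorem exists_rad_fv {y : V3} (hy : hh y y = 0) (hye : hh y (ev hF) = 1) :
    ∃ r : G3, suMat r *ᵥ ev hF = ev hF ∧ suMat r *ᵥ fv hF = y := by
  set a : Fin 1 → F := fun _ => hh y wv
  have hey : hh (ev hF) y = 1 := by rw [herm_swap hF y (ev hF), hye, one_pow]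
  have hs : HeisCond q a (hh y (fv hF)) := by
    rw [heis_one_iff hF]
    have h := hy
    rw [expand hF y, hye] at h
    simp only [herm_add_left, herm_add_right hF, herm_smul_left, herm_smul_right hF, herm_ww hF, herm_we hF,
      herm_ew hF, herm_ee hF, herm_ef hF, herm_fe hF, herm_wf hF, herm_fw hF, herm_ff hF, one_pow] at h
    linear_combination h
  refine ⟨rad hF a _ hs, ?_, ?_⟩
  · rw [rad_apply hF, herm_ee hF, herm_ev_emb hF]; simp
  · rw [rad_apply hF, herm_fe hF, herm_fv_emb hF]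
    conv_rhs => rw [expand hF y, hye]
    rw [emb_eq_smul]
    simp only [a, one_smul, mul_one, sub_zero]
    abel

/-- Two isotropic vectors with non-zero product are the images of the standard pair. -/
theorem exists_pair_map {v w : V3} (hv : v ≠ 0) (hvv : hh v v = 0) (hww : hh w w = 0)
    (hd : hh v w ≠ 0) : ∃ (g : G3) (m : F), suMat g *ᵥ ev hF = v ∧ suMat g *ᵥ (m • fv hF) = w := by
  obtain ⟨g, hg⟩ := exists_SU_vec hF (by norm_num) (ev_ne_zero (k := 1) hF) hv (herm_ee hF) hvv
  have hgw := su_inv_mulVec g⁻¹ w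
  rw [inv_inv] at hgw
  set w' := suMat g⁻¹ *ᵥ w
  have hm : hh w' (ev hF) ≠ 0 := fun e => hd (by
    rw [herm_swap hF w v, ← hgw, ← hg, su_preserves, e, zero_pow (by have := two_le_q hF; omega)])
  have hw' : hh w' w' = 0 := by rw [su_preserves, hww]
  obtain ⟨r, hre, hrf⟩ := exists_rad_fv hF (y := (hh w' (ev hF))⁻¹ • w')
    (by rw [herm_smul_left, herm_smul_right hF, hw', mul_zero, mul_zero])
    (by rw [herm_smul_left, inv_mul_cancel₀ hm])
  refine ⟨g * r, hh w' (ev hF), ?_, ?_⟩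
  · rw [suMat_mul, ← Matrix.mulVec_mulVec, hre, hg]
  · rw [suMat_mul, ← Matrix.mulVec_mulVec, Matrix.mulVec_smul, hrf, smul_smul, mul_inv_cancel₀ hm, one_smul, hgw]

/-- A set of isotropic vectors with vanishing traces: small, with a vector fixed up to scalars. -/
theorem trace_zero_shape (S : Set V3) (hiso : ∀ v ∈ S, hh v v = 0)
    (htr : ∀ v ∈ S, ∀ w ∈ S, hh v w + hh w v = 0) (hne : ∃ v ∈ S, v ≠ 0) :
    Nat.card S ≤ q ^ 2 ∧ ∃ z : V3, z ≠ 0 ∧
      ∀ l : G3, (∀ u ∈ S, suMat l *ᵥ u ∈ S) → ∃ c : F, suMat l *ᵥ z = c • z := by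
  obtain ⟨v, hv, hv0⟩ := hne
  by_cases hlin : ∀ u ∈ S, hh u v = 0
  · have hco : ∀ u : S, ∃ a : F, (u : V3) = a • v := fun u =>
      iso_line hF hv0 (hiso v hv) (hiso _ u.2) (hlin _ u.2)
    choose co hco using hco
    refine ⟨?_, v, hv0, fun l hl => ⟨co ⟨_, hl v hv⟩, hco ⟨_, hl v hv⟩⟩⟩
    rw [← hF]
    exact Nat.card_le_card_of_injective co fun a b h => Subtype.ext (by rw [hco a, hco b, h])
  push Not at hlin
  obtain ⟨w, hw, hwv⟩ := hlin
  have hq0 : q ≠ 0 := by have := two_le_q hF; omega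
  have hvw : hh v w ≠ 0 := fun e => hwv (by rw [herm_swap hF v w, e, zero_pow hq0])
  obtain ⟨g, m, hge, hgf⟩ := exists_pair_map hF hv0 (hiso v hv) (hiso w hw) hvw
  have hm : m ≠ 0 := fun e => hvw (by rw [← hgf, e, zero_smul, Matrix.mulVec_zero]; simp [Cfsg.hermForm, zero_pow hq0])
  have hmq : m + m ^ q = 0 := by
    have h := htr v hv w hw
    rw [← hge, ← hgf, su_preserves, su_preserves, herm_smul_left, herm_smul_right hF, herm_ef hF, herm_fe hF]
      at h
    linear_combination h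
  -- coordinates of the members
  have hcoord : ∀ u ∈ S, ∃ (a : Fix hF) (b : Skew hF),
      u = suMat g *ᵥ ((a : F) • ev hF + (b : F) • fv hF) := by
    intro u hu
    have hgu := su_inv_mulVec g⁻¹ u
    rw [inv_inv] at hgu
    set u' := suMat g⁻¹ *ᵥ u
    have h1 := htr u hu v hv
    rw [← hgu, ← hge, su_preserves, su_preserves, herm_swap hF u' (ev hF)] at h1
    have h2 := htr u hu w hw
    rw [← hgu, ← hgf, su_preserves, su_preserves, herm_smul_left, herm_smul_right hF, herm_swap hF u' (fv hF)] at h2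
    set a := hh u' (fv hF)
    set b := hh u' (ev hF)
    have ha : a ^ q = a := by
      have h3 : m * (a ^ q - a) = 0 := by linear_combination h2 - a * hmq
      exact sub_eq_zero.1 ((mul_eq_zero.1 h3).resolve_left hm)
    have h0 : hh u' u' = 0 := by rw [su_preserves, hiso u hu]
    have hc : hh u' wv = 0 := by
      rw [expand hF u'] at h0
      simp only [herm_add_left, herm_add_right hF, herm_smul_left, herm_smul_right hF, herm_ww hF, herm_we hF,
        herm_ew hF, herm_ee hF, herm_ef hF, herm_fe hF, herm_wf hF, herm_fw hF, herm_ff hF] at h0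
      have h4 : hh u' wv * (hh u' wv) ^ q = 0 := by linear_combination h0 - a * h1 - b * ha
      rcases mul_eq_zero.1 h4 with e | e
      · exact e
      · exact (pow_eq_zero_iff hq0).1 e
    refine ⟨⟨a, ha⟩, ⟨b, h1⟩, ?_⟩
    conv_lhs => rw [← hgu, expand hF u', hc, zero_smul, zero_add]
  choose ca cb hcab using hcoord
  constructor
  · refine le_trans ?_ (le_of_eq (show Nat.card (Fix hF × Skew hF) = q ^ 2 by
      rw [Nat.card_prod, (card_fix_skew hF).1, (card_fix_skew hF).2, pow_two]))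
    refine Nat.card_le_card_of_injective (fun u : S => (ca u.1 u.2, cb u.1 u.2)) fun a b h => Subtype.ext ?_
    simp only [Prod.mk.injEq] at h
    rw [hcab a.1 a.2, hcab b.1 b.2, h.1, h.2]
  refine ⟨suMat g *ᵥ wv, su_mulVec_ne_zero g (wv_ne hF), fun l hl => ?_⟩
  have hperp : ∀ u ∈ S, hh u (suMat g *ᵥ wv) = 0 := fun u hu => by
    rw [hcab u hu, su_preserves]
    simp only [herm_add_left, herm_smul_left, herm_ew hF, herm_fw hF, mul_zero, add_zero]
  have hz : ∀ u ∈ S, hh u (suMat l⁻¹ *ᵥ suMat g *ᵥ wv) = 0 := fun u hu => by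
    rw [← su_preserves l u]
    have h := su_inv_mulVec l⁻¹ (suMat g *ᵥ wv)
    rw [inv_inv] at h
    rw [h]
    exact hperp _ (hl u hu)
  have hgy := su_inv_mulVec g⁻¹ (suMat l⁻¹ *ᵥ suMat g *ᵥ wv)
  rw [inv_inv] at hgy
  set y := suMat g⁻¹ *ᵥ suMat l⁻¹ *ᵥ suMat g *ᵥ wv
  have e1 : hh y (ev hF) = 0 := by
    have h := hz v hv
    rw [← hge, ← hgy, su_preserves] at h
    rw [herm_swap hF (ev hF) y, h, zero_pow hq0]
  have e2 : hh y (fv hF) = 0 := by
    have h := hz w hw
    rw [← hgf, ← hgy, su_preserves, herm_smul_left] at h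
    rw [herm_swap hF (fv hF) y, (mul_eq_zero.1 h).resolve_left hm, zero_pow hq0]
  have hyw : y = hh y wv • wv := by
    conv_lhs => rw [expand hF y, e1, e2, zero_smul, zero_smul, add_zero, add_zero]
  have hc : hh y wv ≠ 0 := fun e => by
    have h0 : y = 0 := by rw [hyw, e, zero_smul]
    exact su_mulVec_ne_zero g⁻¹ (su_mulVec_ne_zero l⁻¹ (su_mulVec_ne_zero g (wv_ne hF))) h0
  refine ⟨(hh y wv)⁻¹, ?_⟩
  have h : suMat l *ᵥ (suMat g *ᵥ y) = suMat l *ᵥ (suMat l⁻¹ *ᵥ suMat g *ᵥ wv) := by rw [hgy]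
  have h' := su_inv_mulVec l⁻¹ (suMat g *ᵥ wv)
  rw [inv_inv] at h'
  rw [h', hyw, Matrix.mulVec_smul, Matrix.mulVec_smul] at h
  conv_rhs => rw [← h]
  rw [smul_smul, inv_mul_cancel₀ hc, one_smul]

end CfsgLib.MinIdxU5
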